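import Cfsg.Agent.Lib.OddOrder12.Final
import Cfsg.Agent.Lib.Local.Sigma.TypeCore
import Cfsg.Agent.S1526

/-!
Peterfalvi 12.17: some maximal subgroup has `κ ≠ ∅`.
-/

set_option autoImplicit false
set_option linter.style.haveILetI false
set_option linter.unusedSectionVars false

namespace Cfsg.Lib.FT12

open Subgroup Cfsg.Lib.Local Cfsg.Lib.Local.Uniq Cfsg.Lib.Local.Sigma

universe u

variable {G : Type u} [Group G] [Finite G]

/-- If every maximal subgroup has `κ = ∅`, then every one is a Frobenius group with kernel its `σ`-core. -/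
theorem isFrob_of_all_free (hG : Cfsg.IsMinSimpleOddOrder G)
    (hfree : ∀ N : Subgroup G, IsCoatom N → Cfsg.kappa N = ∅) {M : Subgroup G} (hM : IsCoatom M) : IsFrob M := by
  by_contra hn
  obtain ⟨p, L, N, A, x, h, hp, c⟩ := exists_ctx hG hfree hM hn
  haveI := Fact.mk hp
  haveI := Fintype.ofFinite G
  haveI := Fintype.ofFinite N
  haveI := Fintype.ofFinite L
  exact c.absurd'

theorem centralizer_le_of_frob (hG : Cfsg.IsMinSimpleOddOrder G)
    (hfr : ∀ N : Subgroup G, IsCoatom N → IsFrob N) {M : Subgroup G} (hM : IsCoatom M) {a : G}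
    (ha : a ∈ Cfsg.sigmaCore M) (ha1 : a ≠ 1) : centralizer ({a} : Set G) ≤ M := by
  by_contra hle
  obtain ⟨N, hN⟩ := exists_support hG hM ha ha1 hle
  obtain ⟨y, hy, hy1⟩ := (bot_or_exists_ne_one _).resolve_left hN.fix
  have haN : a ∈ N := hN.le (mem_centralizer_singleton_iff.2 rfl)
  have haσ : a ∈ Cfsg.sigmaCore N := hfr N hN.coatom y hy.1 hy1
    ⟨haN, mem_centralizer_singleton_iff.2 (mem_centralizer_singleton_iff.1 hy.2).symm⟩
  obtain ⟨q, hq, hqd⟩ := Nat.exists_prime_and_dvd (n := orderOf a) fun e => ha1 (orderOf_eq_one_iff.1 e)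
  exact (hN.tau2 q hq hqd).2.1 (sigmaCore_isPiSub N q hq (hqd.trans (Subgroup.orderOf_dvd_natCard _ haσ)))

/-- Not every maximal subgroup has `κ = ∅`. -/
theorem exists_kappa_nonempty (hG : Cfsg.IsMinSimpleOddOrder G) :
    ∃ M : Subgroup G, IsCoatom M ∧ Cfsg.kappa M ≠ ∅ := by
  classical
  by_contra hno
  push Not at hno
  have hfr : ∀ N : Subgroup G, IsCoatom N → IsFrob N := fun N hN => isFrob_of_all_free hG hno hN
  let X := {M : Subgroup G // IsCoatom M}
  let s : Setoid X :=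
    { r := fun M N => ∃ g : G, N.1 = cj g M.1
      iseqv :=
        { refl := fun M => ⟨1, (cj_one _).symm⟩
          symm := fun {M N} ⟨g, e⟩ => ⟨g⁻¹, by rw [e, cj_cj, inv_mul_cancel, cj_one]⟩
          trans := fun {M N O} ⟨g, e⟩ ⟨k, e'⟩ => ⟨k * g, by rw [e', e, cj_cj]⟩ } }
  haveI : Finite X := Subtype.finite
  haveI : Finite (Quotient s) := Quotient.finite _
  haveI := Fintype.ofFinite (Quotient s)
  let Lf : Quotient s → Subgroup G := fun q => q.out.1
  let Hf : Quotient s → Subgroup G := fun q => Cfsg.sigmaCore (Lf q)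
  have hco : ∀ q, IsCoatom (Lf q) := fun q => q.out.2
  have hrep : ∀ M : Subgroup G, IsCoatom M → ∃ (q : Quotient s) (g : G), Lf q = cj g M := fun M hM =>
    ⟨Quotient.mk s ⟨M, hM⟩, Quotient.exact (Quotient.out_eq (Quotient.mk s (⟨M, hM⟩ : X))).symm⟩
  have hlt : ∀ q, Hf q < Lf q := fun q =>
    lt_of_le_of_ne (sigmaCore_le _) fun e => (derived_lt hG (hco q)).not_ge
      (e.ge.trans (sigmaCore_le_derived hG (hco q)))
  have hTI : ∀ q, Cfsg.IsTISubset (Hf q : Set G) ∧ normalizer (Hf q : Set G) = Lf q := by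
    intro q
    have hN : normalizer (Hf q : Set G) = Lf q := eq_normalizer hG (hco q) (sigmaCore_ne_bot hG (hco q))
      (fun e => (hco q).1 (top_le_iff.1 (e.ge.trans (sigmaCore_le _)))) (le_normalizer_sigmaCore _)
    refine ⟨fun g hg a ha hga => by_contra fun ha1 => hg ?_, hN⟩
    have hga1 : g * a * g⁻¹ ≠ 1 := fun e => ha1 (conj_eq_one_iff.1 e)
    obtain ⟨l, hl, hle⟩ := (dade_af hG (hco q) (hno _ (hco q))).fusion a (mem_afSet_of_mem ha ha1) g
      (mem_afSet_of_mem hga hga1)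
    have hc : l⁻¹ * g ∈ centralizer ({a} : Set G) := mem_centralizer_singleton_iff.2 (by
      calc l⁻¹ * g * a = l⁻¹ * (g * a * g⁻¹) * g := by group
        _ = l⁻¹ * (l * a * l⁻¹) * g := by rw [hle]
        _ = a * (l⁻¹ * g) := by group)
    have hm : g ∈ Lf q := by
      rw [show g = l * (l⁻¹ * g) by group]
      exact mul_mem hl (centralizer_le_of_frob hG hfr (hco q) ha ha1 hc)
    exact hN.symm ▸ hm
  have hcop : ∀ i j, i ≠ j → Nat.Coprime (Nat.card (Hf i)) (Nat.card (Hf j)) := by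
    intro i j hij
    refine Nat.coprime_of_dvd fun t ht h1 h2 => hij ?_
    haveI := Fact.mk ht
    obtain ⟨g, hg⟩ := sigma_disjoint hG (hco i) (hco j) (sigmaCore_isPiSub _ t ht h1) (sigmaCore_isPiSub _ t ht h2)
    rw [← Quotient.out_eq i, ← Quotient.out_eq j]
    exact Quotient.sound ⟨g, hg⟩
  have hcover : ∀ g : G, g ≠ 1 → ∃ i, ∃ y : G, y * g * y⁻¹ ∈ Hf i := by
    intro g hg
    obtain ⟨M, hM, a, ⟨ha, ha1⟩, r, hr, y, hy⟩ := (Cfsg.Agent.S1379.result hG).2.1 hno g hg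
    rw [supportR_of_le (centralizer_le_of_frob hG hfr hM ha ha1), mem_bot] at hr
    obtain ⟨q, k, hk⟩ := hrep M hM
    refine ⟨q, k * y⁻¹, ?_⟩
    show k * y⁻¹ * g * (k * y⁻¹)⁻¹ ∈ Cfsg.sigmaCore (Lf q)
    rw [hk, sigmaCore_cj hG hM, hy, hr]
    rw [show k * y⁻¹ * (y * (a * 1) * y⁻¹) * (k * y⁻¹)⁻¹ = k * a * k⁻¹ by group]
    exact mem_cj ha
  obtain ⟨t, ht, htd⟩ := Nat.exists_prime_and_dvd (n := Nat.card G) fun e => by
    haveI := hG.2.1
    exact not_subsingleton G (Nat.card_eq_one_iff_unique.1 e).1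
  obtain ⟨M₀, hM₀, -⟩ := (Cfsg.Agent.S1378.result hG).1 t ht htd
  obtain ⟨q₀, -, -⟩ := hrep M₀ hM₀
  have hι : 2 ≤ Fintype.card (Quotient s) := by
    by_contra hlt2
    push Not at hlt2
    have hsub : Subsingleton (Quotient s) := Fintype.card_le_one_iff_subsingleton.1 (by omega)
    obtain ⟨r, hr, hrd⟩ := Nat.exists_prime_and_dvd (n := (Hf q₀).relIndex (Lf q₀)) fun e =>
      (hlt q₀).not_ge (relIndex_eq_one.1 e)
    obtain ⟨M₁, hM₁, hσ₁⟩ := (Cfsg.Agent.S1378.result hG).1 r hr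
      (hrd.trans ((relIndex_dvd_card _ _).trans (card_subgroup_dvd_card _)))
    obtain ⟨q₁, k, hk⟩ := hrep M₁ hM₁
    obtain rfl : q₁ = q₀ := Subsingleton.elim _ _
    haveI := Fact.mk hr
    have hσ : r ∈ Cfsg.sigma (Lf q₁) := by rw [hk, sigma_cj]; exact hσ₁
    exact not_dvd_index_sigmaCore hG (hco q₁) hσ (hrd.trans (relIndex_dvd_index_of_le (sigmaCore_le _)))
  exact Cfsg.Agent.S1526.result hG.1 hι Lf Hf hlt (fun q => sigmaCore_ne_bot hG (hco q))
    (fun q y hy a ha => (mem_normalizer_iff.1 (le_normalizer_sigmaCore _ hy) a).1 ha)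
    (fun q a ha ha1 => hfr _ (hco q) a ha ha1) hcop hTI hcover

/-- Not every maximal subgroup is of type I. -/
theorem exists_not_typeI (hG : Cfsg.IsMinSimpleOddOrder G) :
    ∃ M : Subgroup G, IsCoatom M ∧ ¬ Cfsg.IsOfTypeI M := by
  obtain ⟨M, hM, hκ⟩ := exists_kappa_nonempty hG
  refine ⟨M, hM, fun hI => hκ (Set.not_nonempty_iff_eq_empty.1 fun ⟨r, hr⟩ => ?_)⟩
  obtain ⟨K, U, hU⟩ := exists_decomposition hG hM
  obtain ⟨hK, -⟩ := eq_bot_of_typeI hG hM hU hI
  have := dvd_card_kappa hU.hall hr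
  rw [hK, card_bot] at this
  exact hr.1.not_dvd_one this

end Cfsg.Lib.FT12
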