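import Cfsg.Agent.Lib.OddOrder12.Setup
import Cfsg.Agent.S1362

/-!
Peterfalvi section 12: the Dade hypothesis for `{a ∈ L | a ≠ 1, C (a) ∩ L_σ ≠ 1}` when `κ (L) = ∅`.
-/

set_option autoImplicit false
set_option linter.style.haveILetI false
set_option linter.unusedSectionVars false

namespace Cfsg.Lib.FT12

open Subgroup Cfsg.Lib.Local Cfsg.Lib.Local.Uniq Cfsg.Lib.Local.Sigma
open scoped commutatorElement

universe u

variable {G : Type u} [Group G] [Finite G] {M : Subgroup G}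

/-- The nonidentity elements of `M` fixing a nonidentity element of `M_σ`. -/
def afSet (M : Subgroup G) : Set G :=
  {a | a ∈ M ∧ a ≠ 1 ∧ ∃ y ∈ Cfsg.sigmaCore M, y ≠ 1 ∧ a * y = y * a}

theorem mem_afSet_of_mem {a : G} (ha : a ∈ Cfsg.sigmaCore M) (ha1 : a ≠ 1) : a ∈ afSet M :=
  ⟨sigmaCore_le M ha, ha1, a, ha, ha1, rfl⟩

theorem conj_mem_afSet {a m : G} (hm : m ∈ M) (ha : a ∈ afSet M) : m * a * m⁻¹ ∈ afSet M := by
  obtain ⟨h1, h2, y, hy, hy1, h3⟩ := ha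
  exact ⟨mul_mem (mul_mem hm h1) (inv_mem hm), fun e => h2 (conj_eq_one_iff.1 e), m * y * m⁻¹,
    (mem_normalizer_iff.1 (le_normalizer_sigmaCore M hm) y).1 hy, fun e => hy1 (conj_eq_one_iff.1 e),
    by rw [conj_mul, conj_mul, h3]⟩

/-- Outside `M_σ` the centralizer lies in `M`, and `τ₂ (M)` is not empty. -/
theorem afSet_outside (hG : Cfsg.IsMinSimpleOddOrder G) (hM : IsCoatom M) (hf : Cfsg.kappa M = ∅) {a : G}
    (ha : a ∈ afSet M) (haσ : a ∉ Cfsg.sigmaCore M) :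
    centralizer ({a} : Set G) ≤ M ∧ (Cfsg.tau2 M).Nonempty := by
  obtain ⟨haM, ha1, y, hy, hy1, hay⟩ := ha
  obtain ⟨r, hr, hrd, hrσ⟩ : ∃ r : ℕ, r.Prime ∧ r ∣ orderOf a ∧ r ∉ Cfsg.sigma M := by
    by_contra h
    push Not at h
    exact haσ (mem_sigmaCore_of_primes hG hM haM h)
  set c := a ^ (orderOf a / r)
  have hco : orderOf c = r := orderOf_pow_orderOf_div (orderOf_pos a).ne' hrd
  rcases Cfsg.Agent.S1432.result hG M hM y hy hy1 c ⟨pow_mem haM _,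
      mem_centralizer_singleton_iff.2 ((show Commute a y from hay).pow_left _).eq⟩
      (fun e => hr.ne_one (by rw [← hco, e, orderOf_one]))
      (fun t ht hd => by
        rw [hco] at hd
        exact (Nat.prime_dvd_prime_iff_eq ht hr).1 hd ▸ hrσ) with ⟨h, -⟩ | ⟨h, -, hC, -⟩
  · exact absurd (hf ▸ h r hr hco.symm.dvd) (Set.notMem_empty r)
  · refine ⟨fun z hz => hC (mem_centralizer_singleton_iff.2 ?_), r, h r hr hco.symm.dvd⟩
    exact ((show Commute z a from mem_centralizer_singleton_iff.1 hz).pow_right _).eq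

/-- The fusion of the elements outside `M_σ`. -/
theorem afSet_ti (hG : Cfsg.IsMinSimpleOddOrder G) (hM : IsCoatom M) (hf : Cfsg.kappa M = ∅) {a g : G}
    (ha : a ∈ afSet M) (haσ : a ∉ Cfsg.sigmaCore M) (hga : g * a * g⁻¹ ∈ afSet M)
    (hgσ : g * a * g⁻¹ ∉ Cfsg.sigmaCore M) : g ∈ M := by
  obtain ⟨K, U, hU⟩ := exists_decomposition hG hM
  have hK : K = ⊥ := by
    refine eq_bot_of_card_eq _ (by_contra fun h => ?_)
    obtain ⟨t, ht, htd⟩ := Nat.exists_prime_and_dvd h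
    exact Set.notMem_empty t (hf ▸ hU.hall.2.1 t ht htd)
  have hUM : U ⊔ Cfsg.sigmaCore M = M := by
    have := decomp_sup_eq hU
    rwa [hK, sup_bot_eq] at this
  set X := Cfsg.sigmaA M U \ (Cfsg.sigmaCore M : Set G)
  have hX : ∀ b : G, b ∈ afSet M → b ∉ Cfsg.sigmaCore M → b ∈ X := fun b hb hbσ => by
    obtain ⟨hbM, -, y, hy, hy1, hby⟩ := hb
    exact ⟨⟨⟨hbM, y, hy, hy1, hby⟩, hUM.ge hbM⟩, hbσ⟩
  have hinv : ∀ m ∈ M, ∀ b ∈ X, m * b * m⁻¹ ∈ X := by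
    rintro m hm b ⟨⟨⟨hbM, y, hy, hy1, hby⟩, -⟩, hbσ⟩
    exact hX _ (conj_mem_afSet hm ⟨hbM, fun e => hbσ (e ▸ one_mem _), y, hy, hy1, hby⟩)
      fun h => hbσ ((mem_normalizer_iff.1 (le_normalizer_sigmaCore M hm) b).2 h)
  have hN : normalizer X = M := setNormalizer_eq hG hM hinv ⟨a, hX a ha haσ⟩ (fun b hb => hb.1.1.1)
    fun h => h.2 (one_mem _)
  by_contra hg
  exact ha.2.1 (Cfsg.Agent.S1362.result hG M hM K U hU g (by rwa [hN]) a (hX a ha haσ) (hX _ hga hgσ))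

/-- The Dade hypothesis for `afSet M`. -/
theorem dade_af (hG : Cfsg.IsMinSimpleOddOrder G) (hM : IsCoatom M) (hf : Cfsg.kappa M = ∅) :
    Cfsg.DadeHypothesis (afSet M) M (Cfsg.supportR M) := by
  classical
  have hσprime : ∀ a ∈ Cfsg.sigmaCore M, ∀ t : ℕ, t.Prime → t ∣ orderOf a → t ∈ Cfsg.sigma M := fun a ha t ht hd =>
    sigmaCore_isPiSub M t ht (hd.trans (Subgroup.orderOf_dvd_natCard _ ha))
  have hR : ∀ a ∈ afSet M, (centralizer ({a} : Set G) ≤ M ∧ Cfsg.supportR M a = ⊥) ∨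
      (a ∈ Cfsg.sigmaCore M ∧ a ≠ 1 ∧ ∃ N : Subgroup G, Support M N a ∧
        Cfsg.supportR M a = Cfsg.sigmaCore N ⊓ centralizer ({a} : Set G)) := by
    intro a ha
    by_cases hσ : a ∈ Cfsg.sigmaCore M
    · exact (supportR_cases hG hM hσ ha.2.1).imp_right fun h => ⟨hσ, ha.2.1, h⟩
    · exact Or.inl ⟨(afSet_outside hG hM hf ha hσ).1, supportR_of_le (afSet_outside hG hM hf ha hσ).1⟩
  refine ⟨fun h => h.2.1 rfl, fun a ha => ha.1, fun m hm a ha => conj_mem_afSet hm ha, ?_, fun a ha r hr => ?_,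
    fun a ha c hc r hr => ?_, fun a ha => ?_, fun a ha => ?_, fun a ha b hb => ?_⟩
  · intro a ha g hga
    have hord : ∀ t : ℕ, t ∣ orderOf a ↔ t ∣ orderOf (g * a * g⁻¹) := fun t => by rw [orderOf_conj]
    by_cases hσ : a ∈ Cfsg.sigmaCore M
    · have hσ' : g * a * g⁻¹ ∈ Cfsg.sigmaCore M := mem_sigmaCore_of_primes hG hM hga.1
        fun t ht hd => hσprime a hσ t ht ((hord t).mpr hd)
      obtain ⟨r, hr, hre⟩ := exists_conj_centralizer hG hM hσ ha.2.1 (g := g⁻¹)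
        (mem_cj_iff.mpr (by rw [inv_inv]; exact sigmaCore_le M hσ'))
      refine ⟨g * r, mem_of_cj_eq hG hM (by rw [← cj_cj, hre, cj_cj, mul_inv_cancel, cj_one]), ?_⟩
      rw [show g * r * a * (g * r)⁻¹ = g * (r * a) * r⁻¹ * g⁻¹ by group, mem_centralizer_singleton_iff.mp hr]
      group
    · have hσ' : g * a * g⁻¹ ∉ Cfsg.sigmaCore M := fun h => hσ (mem_sigmaCore_of_primes hG hM ha.1
        fun t ht hd => hσprime _ h t ht ((hord t).mp hd))
      exact ⟨g, afSet_ti hG hM hf ha hσ hga hσ', rfl⟩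
  · rcases hR a ha with ⟨-, h⟩ | ⟨h1, h2, -⟩
    · rw [h, mem_bot] at hr
      rw [hr]; exact one_mem _
    · exact mem_centralizer_singleton_iff.mpr (supportR_le_centralizer hG hM h1 h2 hr)
  · rcases hR a ha with ⟨-, h⟩ | ⟨-, -, N, hN, h⟩
    · rw [h, mem_bot] at hr ⊢
      rw [hr]; group
    · rw [h] at hr ⊢
      exact (mem_normalizer_iff.mp (hN.le_normalizer hc) r).mp hr
  · rcases hR a ha with ⟨-, h⟩ | ⟨h1, -, N, hN, h⟩
    · rw [h, bot_inf_eq]
    · rw [h, inf_comm]; exact (hN.compl_centralizer (sigmaCore_le M h1)).2.2.1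
  · rcases hR a ha with ⟨hle, h⟩ | ⟨h1, -, N, hN, h⟩
    · rw [h, bot_sup_eq, inf_eq_right.mpr hle]
    · rw [h]
      obtain ⟨p1, p2, -, p4⟩ := hN.compl_centralizer (sigmaCore_le M h1)
      refine le_antisymm (sup_le p2 p1) fun z hz => ?_
      obtain ⟨y, hy, v, hv, rfl⟩ := p4 z hz
      exact mul_mem (mem_sup_right hy) (mem_sup_left hv)
  · rcases hR a ha with ⟨-, h⟩ | ⟨h1, h2, N, hN, h⟩
    · rw [h, card_bot]; exact Nat.coprime_one_left _
    refine Nat.coprime_of_dvd fun t ht hd1 hd2 => ?_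
    haveI : Fact t.Prime := ⟨ht⟩
    rw [h] at hd1
    have htN : t ∈ Cfsg.sigma N := sigmaCore_isPiSub N t ht (hd1.trans (card_dvd_of_le inf_le_left))
    have htσ : t ∉ Cfsg.sigma M := fun h' => hN.not_conj hG hM h1 h2 t h' htN
    have htM : t ∣ Nat.card M := hd2.trans (card_dvd_of_le inf_le_left)
    have hτ := hN.tau2_eq_empty hG hM h1 h2 htN htM
    have hbσ : b ∈ Cfsg.sigmaCore M := by_contra fun hb' => by
      have := (afSet_outside hG hM hf hb hb').2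
      rw [hτ] at this
      exact Set.not_nonempty_empty this
    obtain ⟨⟨y, hy⟩, hyo⟩ := exists_prime_orderOf_dvd_card' t hd2
    rw [Subgroup.orderOf_mk] at hyo
    rcases Cfsg.Agent.S1432.result hG M hM b hbσ hb.2.1 y hy (fun e => ht.ne_one (by rw [← hyo, e, orderOf_one]))
      (fun p hp hd => by rw [hyo] at hd; exact (Nat.prime_dvd_prime_iff_eq hp ht).mp hd ▸ htσ) with ⟨h', -⟩ | ⟨h', -⟩
    · exact absurd (hf ▸ h' t ht hyo.symm.dvd) (Set.notMem_empty t)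
    · exact absurd (hτ ▸ h' t ht hyo.symm.dvd) (Set.notMem_empty t)

/-- The support of the Dade map of `afSet M` lies in `M~`. -/
theorem mem_tildeOf_of_hit {g a u x : G} (ha : a ∈ Cfsg.sigmaCore M) (ha1 : a ≠ 1) (hu : u ∈ Cfsg.supportR M a)
    (e : x * g * x⁻¹ = a * u) : g ∈ Cfsg.tildeOf M ((Cfsg.sigmaCore M : Set G) \ {1}) :=
  ⟨a, ⟨ha, ha1⟩, u, hu, x⁻¹, by rw [← e]; group⟩

end Cfsg.Lib.FT12
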