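import Cfsg.Agent.Lib.OddOrder12.Local
import Cfsg.Agent.Lib.OddOrder12.DadeF
import Cfsg.Agent.Lib.Char.FT.Frobenius
import Cfsg.Agent.Lib.Char.CoherenceKernel
import Cfsg.Agent.Lib.Local.Sigma.TypeCore
import Cfsg.Agent.S1514
import Cfsg.Agent.S1521
import Cfsg.Agent.S1535

/-!
Peterfalvi 12.16: the supported subgroup `M` is a Frobenius group with a coherent family, and the sizes involved.
-/

set_option autoImplicit false
set_option linter.style.haveILetI false
set_option linter.unusedSectionVars false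

namespace Cfsg.Lib.FT12

open Subgroup Cfsg.Lib Cfsg.Lib.Local Cfsg.Lib.Local.Uniq Cfsg.Lib.Local.Sigma Cfsg.Lib.Char Cfsg.Lib.Char.FT
open scoped commutatorElement ComplexConjugate

universe u

section PGroup

variable {Q : Type u} [Group Q] [Finite Q] {p : ℕ}

/-- In a group generated by two elements modulo a subgroup, the derived group is generated by their commutator
modulo the next term of the lower central series, and has order at most the order of a generator. -/
theorem relIndex_commutator_commutator (hn : Group.IsNilpotent Q) (hp : p.Prime)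
    (hidx : (commutator Q).index = p ^ 2) (hne : commutator Q ≠ ⊥) :
    (⁅commutator Q, (⊤ : Subgroup Q)⁆).relIndex (commutator Q) = p := by
  haveI := Fact.mk hp
  set D := commutator Q with hD
  have hfr : D ≤ frattini Q := commutator_le_frattini_of_nilpotent hn
  have hnc : ∀ q : Q, D ⊔ zpowers q ≠ ⊤ := by
    intro q e
    have htop : zpowers q = ⊤ := frattini_nongenerating (top_unique (e.ge.trans (sup_le (hfr.trans le_sup_right) le_sup_left)))
    refine hne ((eq_bot_iff).2 ?_)
    rw [hD, commutator_def, commutator_le]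
    intro a _ b _
    obtain ⟨i, hi⟩ := mem_zpowers_iff.1 (htop.ge (mem_top a))
    obtain ⟨j, hj⟩ := mem_zpowers_iff.1 (htop.ge (mem_top b))
    rw [mem_bot, commutatorElement_eq_one_iff_mul_comm, ← hi, ← hj, ← zpow_add, ← zpow_add, add_comm]
  have hexp : ∀ q : Q, q ^ p ∈ D := by
    intro q
    rw [← QuotientGroup.eq_one_iff, QuotientGroup.mk_pow]
    have hd : orderOf (QuotientGroup.mk q : Q ⧸ D) ∣ p ^ 2 := by
      rw [← hidx, Subgroup.index_eq_card]; exact orderOf_dvd_natCard _
    obtain ⟨i, hi, he⟩ := (Nat.dvd_prime_pow hp).1 hd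
    obtain rfl | h1 : i = 2 ∨ i ≤ 1 := by omega
    · exfalso
      refine hnc q (top_unique fun z _ => ?_)
      have htop : zpowers (QuotientGroup.mk q : Q ⧸ D) = ⊤ := eq_top_of_card_eq _ (by
        rw [Nat.card_zpowers, he, ← hidx, Subgroup.index_eq_card])
      obtain ⟨j, hj⟩ := mem_zpowers_iff.1 (htop.ge (mem_top (QuotientGroup.mk z)))
      rw [← QuotientGroup.mk_zpow, QuotientGroup.eq] at hj
      rw [show z = q ^ j * ((q ^ j)⁻¹ * z) by group]
      exact mul_mem (mem_sup_right (zpow_mem (mem_zpowers q) j)) (mem_sup_left hj)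
    · exact orderOf_dvd_iff_pow_eq_one.1 (he ▸ (pow_dvd_pow p h1).trans (pow_one p).dvd)
  have hD1 : D ≠ ⊤ := fun e => by
    rw [e, index_top] at hidx
    exact (Nat.one_lt_pow two_ne_zero hp.one_lt).ne hidx
  obtain ⟨a, -, ha⟩ := SetLike.exists_of_lt (lt_top_iff_ne_top.2 hD1)
  set A₁ := D ⊔ zpowers a
  obtain ⟨b, -, hb⟩ := SetLike.exists_of_lt (lt_top_iff_ne_top.2 (hnc a))
  have hgen : zpowers a ⊔ zpowers b = ⊤ := by
    refine frattini_nongenerating (top_unique ?_)
    have h1 : A₁ ⊔ zpowers b = ⊤ := by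
      have hd : A₁.index ∣ p ^ 2 := hidx ▸ index_dvd_of_le le_sup_left
      obtain ⟨i, hi, he⟩ := (Nat.dvd_prime_pow hp).1 hd
      have h2 : A₁.index ≠ p ^ 2 := fun e => ha (by
        have h3 : D = A₁ := eq_of_le_of_card_ge le_sup_left (le_of_eq (Nat.eq_of_mul_eq_mul_right
          (show 0 < p ^ 2 from pow_pos hp.pos 2) (by rw [← e, card_mul_index A₁, e, ← hidx, card_mul_index D])))
        exact h3.ge (mem_sup_right (mem_zpowers a)))
      have hi2 : i ≠ 2 := fun e => h2 (by rw [he, e])
      have hi0 : i ≠ 0 := fun e => hnc a (index_eq_one.1 (by rw [he, e, pow_zero]))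
      obtain rfl : i = 1 := by omega
      set B := A₁ ⊔ zpowers b
      obtain ⟨j, hj, hje⟩ := (Nat.dvd_prime_pow hp).1 (he ▸ index_dvd_of_le le_sup_left : B.index ∣ p ^ 1)
      rcases (by omega : j = 0 ∨ j = 1) with rfl | rfl
      · exact index_eq_one.1 (by rw [hje, pow_zero])
      · exact absurd ((eq_of_le_of_card_ge (le_sup_left : A₁ ≤ B) (le_of_eq (Nat.eq_of_mul_eq_mul_right
          (show 0 < p ^ 1 from pow_pos hp.pos 1) (by
            conv_lhs => rw [← hje, card_mul_index B]
            rw [← he, card_mul_index A₁])))).ge (mem_sup_right (mem_zpowers b))) hb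
    rw [← h1]
    exact sup_le (sup_le (hfr.trans le_sup_right) (le_sup_left.trans le_sup_left)) (le_sup_right.trans le_sup_left)
  set N := ⁅D, (⊤ : Subgroup Q)⁆
  haveI : D.Normal := by rw [hD, commutator_def]; exact commutator_normal _ _
  haveI : N.Normal := commutator_normal _ _
  let π := QuotientGroup.mk' N
  have hcen : ∀ d ∈ D, ∀ z : Q ⧸ N, z * π d = π d * z := by
    intro d hd z
    obtain ⟨z, rfl⟩ := QuotientGroup.mk'_surjective N z
    have h1 : π ⁅d, z⁆ = 1 := (QuotientGroup.eq_one_iff _).2 (commutator_mem_commutator hd (mem_top z))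
    rw [map_commutatorElement, commutatorElement_eq_one_iff_mul_comm] at h1
    exact h1.symm
  set c := π ⁅a, b⁆
  have hcD : ⁅a, b⁆ ∈ D := by rw [hD, commutator_def]; exact commutator_mem_commutator (mem_top a) (mem_top b)
  have hc : ∀ z : Q ⧸ N, z * c = c * z := hcen _ hcD
  have hpow : ∀ n : ℕ, π a ^ n * π b = c ^ n * π b * π a ^ n := by
    intro n
    induction n with
    | zero => simp
    | succ n ih =>
      have hc1 : π a * π b = c * π b * π a := by
        rw [show c = π a * π b * (π a)⁻¹ * (π b)⁻¹ by simp only [c, commutatorElement_def, map_mul, map_inv]]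
        group
      calc π a ^ (n + 1) * π b = π a * (π a ^ n * π b) := by rw [pow_succ', mul_assoc]
        _ = π a * (c ^ n * π b * π a ^ n) := by rw [ih]
        _ = c ^ n * (π a * π b) * π a ^ n := by
          rw [← mul_assoc, ← mul_assoc, ((show Commute (π a) c from hc _).pow_right n).eq]; group
        _ = c ^ (n + 1) * π b * π a ^ (n + 1) := by rw [hc1, pow_succ c, pow_succ' (π a)]; group
  have hcp : c ^ p = 1 := by
    have h1 := hpow p
    rw [← map_pow, ← hcen _ (hexp a) (π b), mul_assoc] at h1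
    exact mul_eq_right.1 h1.symm
  haveI hCn : (zpowers c).Normal := ⟨fun y hy z => by
    obtain ⟨i, rfl⟩ := mem_zpowers_iff.1 hy
    rw [((show Commute z c from hc z).zpow_right i).eq, mul_inv_cancel_right]
    exact zpow_mem (mem_zpowers c) i⟩
  let ρ := (QuotientGroup.mk' (zpowers c)).comp π
  have hρab : ρ a * ρ b = ρ b * ρ a := by
    rw [← commutatorElement_eq_one_iff_mul_comm, ← map_commutatorElement]
    exact (QuotientGroup.eq_one_iff _).2 (mem_zpowers c)
  have hρcomm : ∀ y z : Q, ρ y * ρ z = ρ z * ρ y := by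
    have h1 : ∀ g : Q, ρ g * ρ a = ρ a * ρ g → ρ g * ρ b = ρ b * ρ g → ∀ z : Q, ρ g * ρ z = ρ z * ρ g := by
      intro g ga gb z
      have hle : zpowers a ⊔ zpowers b ≤ (centralizer ({ρ g} : Set ((Q ⧸ N) ⧸ zpowers c))).comap ρ :=
        sup_le (zpowers_le.2 (mem_centralizer_singleton_iff.2 ga.symm))
          (zpowers_le.2 (mem_centralizer_singleton_iff.2 gb.symm))
      exact (mem_centralizer_singleton_iff.1 (hle (hgen.ge (mem_top z)))).symm
    intro y z
    exact h1 y (h1 a rfl hρab y).symm (h1 b hρab.symm rfl y).symm z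
  have hle : D.map π ≤ zpowers c := by
    rw [map_le_iff_le_comap, hD, commutator_def, commutator_le]
    intro y _ z _
    rw [mem_comap, ← QuotientGroup.eq_one_iff]
    show ρ ⁅y, z⁆ = 1
    rw [map_commutatorElement, commutatorElement_eq_one_iff_mul_comm]
    exact hρcomm y z
  have hr : N.relIndex D = Nat.card (D.map π) := by
    conv_lhs => rw [← QuotientGroup.ker_mk' N]
    exact Subgroup.relIndex_ker (K := D) π
  have h1 : N.relIndex D ≠ 1 := by
    intro e
    refine hne ?_
    have hDN : D ≤ N := relIndex_eq_one.1 e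
    obtain ⟨n, hn'⟩ := Subgroup.nilpotent_iff_lowerCentralSeries.1 hn
    refine le_bot_iff.1 (hn' ▸ ?_)
    clear hn'
    induction n with
    | zero => exact le_top
    | succ n ih => exact hDN.trans (commutator_mono ih le_rfl)
  rw [hr] at h1 ⊢
  refine ((Nat.dvd_prime hp).1 ((card_dvd_of_le hle).trans ?_)).resolve_left h1
  rw [Nat.card_zpowers]
  exact orderOf_dvd_of_pow_eq_one hcp

end PGroup

variable {G : Type u} [Group G] [Finite G] {p : ℕ} [hp : Fact p.Prime] {L M A : Subgroup G} {x h : G}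

/-- The kernel of `M` as a subgroup of `M`. -/
abbrev kerM (M : Subgroup G) : Subgroup M := (Cfsg.sigmaCore M).subgroupOf M

instance kerM_normal : (kerM M).Normal :=
  (normal_subgroupOf_iff_le_normalizer (sigmaCore_le M)).2 (le_normalizer_sigmaCore M)

namespace Ctx

theorem five_le (c : Ctx p L M A x h) : 5 ≤ p := by
  obtain ⟨-, h3, h2⟩ := c.index_bound
  omega

theorem frobData (c : Ctx p L M A x h) : FrobData (afSet M) M (Cfsg.supportR M) (kerM M) := by
  refine ⟨dade_af c.minimal c.coatomM c.freeM, ?_, ?_, ?_, ?_⟩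
  · intro e
    rw [subgroupOf_eq_bot, disjoint_iff, inf_eq_left.2 (sigmaCore_le M)] at e
    exact sigmaCore_ne_bot c.minimal c.coatomM e
  · rw [Ne, subgroupOf_eq_top]
    exact fun e => (derived_lt c.minimal c.coatomM).not_ge (e.trans (sigmaCore_le_derived c.minimal c.coatomM))
  · intro y hy hy1 f hf
    exact c.free_action f.2 hy (fun e => hy1 (Subtype.ext e))
      (congrArg Subtype.val (mem_centralizer_singleton_iff.1 hf) :)
  · intro f
    constructor
    · rintro ⟨-, hf1, y, hy, hy1, hc⟩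
      exact ⟨c.free_action f.2 hy hy1 hc, fun e => hf1 (by rw [e]; rfl)⟩
    · rintro ⟨hf, hf1⟩
      exact mem_afSet_of_mem hf fun e => hf1 (Subtype.ext e)

theorem card_ker (c : Ctx p L M A x h) :
    p ^ 2 ≤ Nat.card (kerM M) ∧ Nat.card ↥(M ⊓ L) ≤ Nat.card (kerM M) ∧ p ∣ Nat.card (kerM M) := by
  have e : Nat.card (kerM M) = Nat.card (Cfsg.sigmaCore M) :=
    Nat.card_congr (subgroupOfEquivOfLe (sigmaCore_le M)).toEquiv
  have hA : A ≤ Cfsg.sigmaCore M := le_sigmaCore c.minimal c.coatomM c.p_sigma c.A_le c.tau.isPGroup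
  rw [e]
  exact ⟨c.tau.card ▸ card_le_of_le hA, card_le_of_le c.inter_le,
    c.tau.dvd_card.trans (card_dvd_of_le hA)⟩

theorem index_ker (_c : Ctx p L M A x h) : (kerM M).index = (Cfsg.sigmaCore M).relIndex M := rfl

theorem big (c : Ctx p L M A x h) :
    (kerM M).index * ((kerM M).index + 1) + 1 < Nat.card (kerM M) := by
  obtain ⟨-, h3, h2⟩ := c.index_bound
  rw [c.index_ker]
  refine lt_of_lt_of_le ?_ c.card_ker.1
  have := c.five_le
  nlinarith

theorem ker_nilpotent (c : Ctx p L M A x h) : Group.IsNilpotent (kerM M) := by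
  haveI := nilpotent_of_free c.minimal c.coatomM c.freeM
  exact Group.nilpotent_of_mulEquiv (subgroupOfEquivOfLe (sigmaCore_le M)).symm

variable [Fintype M]

theorem exists_linear (c : Ctx p L M A x h) :
    ∃ χ ∈ irrNontrivialOn (kerM M), χ 1 = ((kerM M).index : ℂ) := by
  haveI := Fintype.ofFinite (kerM M)
  haveI := c.ker_nilpotent
  haveI : Nontrivial (kerM M) := (nontrivial_iff_ne_bot _).2 c.frobData.ne_bot
  have hlt := Group.IsSolvable.commutator_lt_top_of_nontrivial (kerM M)
  have h1 : Nat.card ((kerM M) →* ℂˣ) ≠ 1 := by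
    rw [card_linear_eq_index, Ne, index_eq_one]
    exact hlt.ne
  obtain ⟨φ, hφ⟩ : ∃ φ : (kerM M) →* ℂˣ, φ ≠ 1 := by
    by_contra hno
    push Not at hno
    exact h1 (Nat.card_eq_one_iff_exists.2 ⟨1, hno⟩)
  rw [irrNontrivialOn_eq_induced c.frobData.free]
  refine ⟨_, ⟨fun y => (φ y : ℂ), isIrrCharacter_linear φ, fun e => hφ (MonoidHom.ext fun y => Units.ext ?_),
    fun a ha => ?_, rfl⟩, ?_⟩
  · exact congrFun e y
  · rw [show a = 1 from Subtype.ext (mem_bot.1 ha)]
  · rw [indFun_apply_one, map_one, Units.val_one, mul_one]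

/-- The exceptional case of the coherence theorem. -/
theorem index_dvd_sub_one (c : Ctx p L M A x h) {m : ℕ} (hm : Nat.card (kerM M) = p ^ m)
    (hna : ¬ IsMulCommutative (kerM M))
    (hsmall : (⁅kerM M, kerM M⁆.subgroupOf (kerM M)).index ≤ 4 * (kerM M).index ^ 2 + 1) :
    (kerM M).index ∣ p - 1 := by
  haveI := c.ker_nilpotent
  set K := kerM M
  have hD : ⁅K, K⁆.subgroupOf K = commutator K := by
    rw [← map_subtype_commutator]
    exact comap_map_eq_self_of_injective K.subtype_injective _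
  rw [hD] at hsmall
  obtain ⟨i, -, hi⟩ := (Nat.dvd_prime_pow hp.out).1 (hm ▸ index_dvd_card (commutator K))
  have hne : commutator K ≠ ⊥ := fun e => hna ⟨⟨fun a b => commutatorElement_eq_one_iff_mul_comm.1
    (mem_bot.1 (e.le (by rw [commutator_def]; exact commutator_mem_commutator (mem_top a) (mem_top b))))⟩⟩
  have hi2 : i ≤ 2 := by
    by_contra hlt
    push Not at hlt
    have h1 : p ^ 3 ≤ p ^ i := Nat.pow_le_pow_right hp.out.pos hlt
    obtain ⟨-, h3, h2⟩ := c.index_bound
    have h5 := c.five_le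
    rw [hi] at hsmall
    rw [← c.index_ker] at h2
    have h4 := Nat.mul_le_mul h2 h2
    have h6 : p ^ 3 = p * p * p := by ring
    nlinarith [Nat.mul_le_mul_right (p * p) h5, Nat.mul_le_mul_right p h5]
  have hi2' : i = 2 := by
    by_contra hne2
    have hcyc : IsCyclic (K ⧸ commutator K) := by
      rcases (by omega : i = 0 ∨ i = 1) with rfl | rfl
      · haveI : Subsingleton (K ⧸ commutator K) := (Nat.card_eq_one_iff_unique.1 (by
          rw [← index_eq_card, hi, pow_zero])).1
        infer_instance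
      · exact isCyclic_of_prime_card (p := p) (by rw [← index_eq_card, hi, pow_one])
    obtain ⟨g, hg⟩ := hcyc.exists_generator
    obtain ⟨g, rfl⟩ := QuotientGroup.mk_surjective g
    have htop : zpowers g = ⊤ := frattini_nongenerating (top_unique fun z _ => by
      obtain ⟨j, hj⟩ := mem_zpowers_iff.1 (hg (QuotientGroup.mk z))
      rw [← QuotientGroup.mk_zpow, QuotientGroup.eq] at hj
      rw [show z = g ^ j * ((g ^ j)⁻¹ * z) by group]
      exact mul_mem (mem_sup_left (zpow_mem (mem_zpowers g) j))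
        (mem_sup_right (commutator_le_frattini_of_nilpotent c.ker_nilpotent hj)))
    refine hna ⟨⟨fun a b => ?_⟩⟩
    obtain ⟨ja, rfl⟩ := mem_zpowers_iff.1 (htop.ge (mem_top a))
    obtain ⟨jb, rfl⟩ := mem_zpowers_iff.1 (htop.ge (mem_top b))
    rw [← zpow_add, ← zpow_add, add_comm]
  subst hi2'
  have hrel := relIndex_commutator_commutator c.ker_nilpotent hp.out hi hne
  have hmapD : (commutator K).map K.subtype = ⁅K, K⁆ := map_subtype_commutator K
  have hrel' : (⁅⁅K, K⁆, K⁆).relIndex ⁅K, K⁆ = p := by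
    rw [← hrel, ← relIndex_map_map_of_injective _ _ K.subtype_injective, map_commutator, hmapD,
      ← MonoidHom.range_eq_map, range_subtype]
  haveI : (⁅K, K⁆).Normal := commutator_normal _ _
  haveI : (⁅⁅K, K⁆, K⁆).Normal := commutator_normal _ _
  have := index_dvd_section c.frobData.free ⁅⁅K, K⁆, K⁆ ⁅K, K⁆
    (commutator_mono (commutator_le_self K) le_rfl) (commutator_le_self K)
  rwa [hrel'] at this

variable [Fintype G]

/-- The coherent extension of the Dade map. -/
theorem exists_extends (c : Ctx p L M A x h) :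
    ∃ τ₁, Extends (afSet M) M (Cfsg.supportR M) (kerM M) τ₁ := by
  have d := c.frobData
  set τ := Cfsg.dadeIsometry (afSet M) M (Cfsg.supportR M)
  set K := kerM M
  have hodd : Odd (Nat.card M) := Uniq.odd_subgroup c.minimal M
  have hτ : Cfsg.IsLinearIsometryOn (Cfsg.zspanOn (irrNontrivialOn K) {1}ᶜ) τ := by
    refine ⟨fun a _ b _ => ?_, fun a _ n => ?_, fun a ha b hb => ?_, fun a ha => ?_⟩
    · funext g; simp only [τ, Cfsg.dadeIsometry, Pi.add_apply]; split_ifs <;> simp
    · funext g; simp only [τ, Cfsg.dadeIsometry, Pi.smul_apply]; split_ifs <;> simp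
    · exact classInner_dadeIsometry_dadeIsometry d.dade (d.props ha.1).1 (d.support ha) (d.props hb.1).1
    · exact isGeneralizedCharacter_dadeIsometry d.dade (d.props ha.1).2.2 (d.support ha)
  have hτ1 : ∀ α ∈ Cfsg.zspanOn (irrNontrivialOn K) {1}ᶜ, τ α 1 = 0 := fun α _ =>
    dadeIsometry_eq_zero fun a ha y u hu e => by
      rw [mul_one, mul_inv_cancel] at e
      have h0 : (a : G) = u⁻¹ := eq_inv_of_mul_eq_one_left e.symm
      have hau : (a : G) ∈ Cfsg.supportR M (a : G) := by
        have := (Cfsg.supportR M (a : G)).inv_mem hu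
        rwa [← h0] at this
      have : (a : G) ∈ Cfsg.supportR M (a : G) ⊓ (M ⊓ centralizer ({(a : G)} : Set G)) :=
        ⟨hau, a.2, mem_centralizer_singleton_iff.mpr rfl⟩
      rw [d.dade.inf_eq_bot _ ha, mem_bot] at this
      exact ha.2.1 this
  suffices h : Cfsg.IsCoherent (irrNontrivialOn K) {1}ᶜ τ by
    obtain ⟨-, τ₁, h1, h2⟩ := h
    exact ⟨τ₁, h1, h2⟩
  have hcardne : Nat.card K ≠ K.index + 1 := by
    have : K.index * (K.index + 1) + 1 < Nat.card K := c.big
    have h1 : K.index + 1 ≤ K.index * (K.index + 1) + 1 := by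
      have : 0 < K.index := Nat.pos_of_ne_zero index_ne_zero_of_finite
      nlinarith
    omega
  rcases Cfsg.Agent.S1535.result K d.ne_bot d.ne_top d.free hcardne τ hτ hτ1 with h | ⟨q, hq, ⟨m, hm⟩, hna, hsmall⟩
  · exact h
  obtain rfl : p = q :=
    (Nat.prime_dvd_prime_iff_eq hp.out hq).1 (hp.out.dvd_of_dvd_pow (hm ▸ c.card_ker.2.2))
  have hidx := c.index_dvd_sub_one hm hna hsmall
  haveI := c.ker_nilpotent
  haveI : ((⊥ : Subgroup M).subgroupOf K).Normal := by rw [Subgroup.bot_subgroupOf]; infer_instance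
  obtain ⟨χ₀, hχ₀, -⟩ := c.exists_linear
  obtain ⟨Rf, hRf⟩ := Cfsg.Agent.S1514.result (irrNontrivialOn K) ⟨χ₀, hχ₀⟩ (fun χ hχ => hχ.1)
    (fun χ hχ => ⟨irrNontrivialOn_conjFun hχ, irrNontrivialOn_conjFun_ne hodd hχ⟩) τ hτ hτ1
  rw [irrNontrivialOn_eq_induced d.free] at hRf ⊢
  refine Cfsg.Agent.S1521.result K inferInstance τ Rf hRf hodd ⊥ bot_le inferInstance ⁅K, K⁆
    (by rw [sup_bot_eq]) (frobKernel_commutator_lt d.ne_bot c.ker_nilpotent) (lt_top_iff_ne_top.2 d.ne_top)
    (fun k hk hk' y hy => mem_kernel_of_commutator_mem d.free hk hk' hy)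
    (Or.inr (Or.inr (Or.inr (Or.inr ⟨p, m, hp.out, ?_, hidx⟩))))
  rw [relIndex_bot_left, hm]

end Ctx

end Cfsg.Lib.FT12
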