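import Cfsg.Agent.Lib.Local.Sigma.TauTwoLines
import Cfsg.Agent.Lib.Local.RankTwoAut

/-!
Orbit counting for a group acting on a subgroup of order `p` or `p ^ 2` with all point stabilisers equal.
-/

set_option autoImplicit false
set_option linter.unusedSectionVars false
set_option linter.style.haveILetI false

namespace Cfsg.Lib.FT12

open Subgroup Cfsg.Lib.Local Cfsg.Lib.Local.Uniq Cfsg.Lib.Local.Sigma

universe u

theorem dvd_card_of_stab {Q : Type*} [Group Q] [Finite Q] {α : Type*} [MulAction Q α] [Finite α] (e : ℕ)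
    (h : ∀ a : α, (MulAction.stabilizer Q a).index = e) : e ∣ Nat.card α := by
  classical
  haveI := Fintype.ofFinite α
  haveI := Fintype.ofFinite (MulAction.orbitRel.Quotient Q α)
  rw [Nat.card_congr (MulAction.selfEquivSigmaOrbitsQuotientStabilizer Q α), Nat.card_sigma]
  refine Finset.dvd_sum fun ω _ => ?_
  rw [show Nat.card (Q ⧸ MulAction.stabilizer Q ω.out) = e from h _]

variable {G : Type u} [Group G] [Finite G]

theorem dvd_card_sub_one_of_stab {M : Subgroup G} (W : Subgroup G) (hWM : M ≤ normalizer (W : Set G)) (K : Subgroup G)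
    (h : ∀ m ∈ M, ∀ v ∈ W, v ≠ 1 → (m * v * m⁻¹ = v ↔ m ∈ K)) : K.relIndex M ∣ Nat.card W - 1 := by
  letI : MulAction M {v : W // v ≠ 1} :=
    { smul := fun m v => ⟨⟨(m : G) * (v.1 : G) * (m : G)⁻¹, (mem_normalizer_iff.1 (hWM m.2) _).1 v.1.2⟩,
        fun e => v.2 (Subtype.ext (conj_eq_one_iff.1 (congrArg Subtype.val e)))⟩
      one_smul := fun v => Subtype.ext (Subtype.ext (by show (1 : G) * _ * (1 : G)⁻¹ = _; simp))
      mul_smul := fun a b v => Subtype.ext (Subtype.ext (by
        show ((a * b : M) : G) * _ * ((a * b : M) : G)⁻¹ = a * (b * _ * (b : G)⁻¹) * (a : G)⁻¹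
        rw [Subgroup.coe_mul]; group)) }
  have hd := dvd_card_of_stab (Q := M) (α := {v : W // v ≠ 1}) (K.relIndex M) fun v => by
    have : MulAction.stabilizer M v = K.subgroupOf M := by
      ext m
      rw [MulAction.mem_stabilizer_iff, mem_subgroupOf]
      refine Iff.trans ?_ (h m m.2 v.1 v.1.2 fun e => v.2 (Subtype.ext e))
      exact ⟨fun e => congrArg (fun u : {v : W // v ≠ 1} => (u.1 : G)) e, fun e => Subtype.ext (Subtype.ext e)⟩
    rw [this]; rfl
  refine hd.trans (dvd_of_eq ?_)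
  classical
  haveI := Fintype.ofFinite W
  rw [Nat.card_eq_fintype_card, Fintype.card_subtype_compl, Fintype.card_subtype_eq, Nat.card_eq_fintype_card]

theorem dvd_succ_of_stab {p : ℕ} (hp : p.Prime) {M : Subgroup G} (A : Subgroup G) (hA : Cfsg.IsElementaryAbelian p A)
    (hA2 : Nat.card A = p ^ 2) (hAM : M ≤ normalizer (A : Set G)) (K : Subgroup G)
    (h : ∀ m ∈ M, ∀ z ∈ A, z ≠ 1 → (m ∈ normalizer (zpowers z : Set G) ↔ m ∈ K)) :
    K.relIndex M ∣ p + 1 := by
  classical
  haveI := Fact.mk hp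
  let α := {W : Subgroup G // W ≤ A ∧ Nat.card W = p}
  letI : MulAction M α :=
    { smul := fun m W => ⟨W.1.map (MulAut.conj (m : G)).toMonoidHom,
        (map_mono W.2.1).trans (le_of_eq (Core.mem_normalizer_iff_map_conj.1 (hAM m.2))),
        by rw [Cfsg.Lib.Coprime.card_map_conj]; exact W.2.2⟩
      one_smul := fun W => Subtype.ext (by
        show W.1.map (MulAut.conj ((1 : M) : G)).toMonoidHom = W.1
        exact cj_one W.1)
      mul_smul := fun a b W => Subtype.ext (by
        show W.1.map _ = (W.1.map _).map _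
        exact (cj_cj (b : G) (a : G) W.1).symm) }
  have hgen : ∀ W : α, ∃ z ∈ A, z ≠ 1 ∧ W.1 = zpowers z := by
    intro W
    obtain ⟨z, hz, hz1⟩ := W.1.bot_or_exists_ne_one.resolve_left fun e => by
      have := W.2.2; rw [e, card_bot] at this; exact hp.ne_one this.symm
    exact ⟨z, W.2.1 hz, hz1, (eq_of_le_of_card_ge (zpowers_le.2 hz)
      (by rw [W.2.2, card_zpowers_eq (hA.2 z (W.2.1 hz)) hz1])).symm⟩
  have hd := dvd_card_of_stab (Q := M) (α := α) (K.relIndex M) fun W => by
    obtain ⟨z, hz, hz1, hW⟩ := hgen W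
    have : MulAction.stabilizer M W = K.subgroupOf M := by
      ext m
      rw [MulAction.mem_stabilizer_iff, mem_subgroupOf, ← h m m.2 z hz hz1, Core.mem_normalizer_iff_map_conj]
      exact ⟨fun e => by rw [← hW]; exact congrArg Subtype.val e,
        fun e => Subtype.ext (show W.1.map _ = W.1 by rw [hW]; exact e)⟩
    rw [this]; rfl
  refine hd.trans (dvd_of_eq (Nat.eq_of_mul_eq_mul_right (Nat.sub_pos_of_lt hp.one_lt) ?_))
  have e1 : Nat.card {v : A // v ≠ 1} = p ^ 2 - 1 := by
    haveI := Fintype.ofFinite A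
    rw [Nat.card_eq_fintype_card, Fintype.card_subtype_compl, Fintype.card_subtype_eq,
      ← Nat.card_eq_fintype_card, hA2]
  have e2 : Nat.card {v : A // v ≠ 1} = Nat.card α * (p - 1) := by
    haveI := Fintype.ofFinite α
    let f : (Σ W : α, {v : W.1 // v ≠ 1}) → {v : A // v ≠ 1} := fun x =>
      ⟨⟨x.2.1, x.1.2.1 x.2.1.2⟩, fun e => x.2.2 (Subtype.ext (congrArg (fun a : A => (a : G)) e :))⟩
    have hf : Function.Bijective f := by
      refine ⟨?_, fun v => ?_⟩
      · rintro ⟨W, v, hv⟩ ⟨W', v', hv'⟩ e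
        have e' : (v : G) = v' := congrArg (fun a : {v : A // v ≠ 1} => (a.1 : G)) e
        obtain ⟨z, hz, hz1, hW⟩ := hgen W
        obtain ⟨z', hz', hz'1, hW'⟩ := hgen W'
        have hv1 : (v : G) ≠ 1 := fun h => hv (Subtype.ext h)
        obtain rfl : W = W' := Subtype.ext (by
          rw [hW, hW', ← zpowers_eq_of_mem (hA.2 z hz) (hW ▸ v.2) hv1,
            ← zpowers_eq_of_mem (hA.2 z' hz') (hW' ▸ (e' ▸ v'.2 : (v : G) ∈ W'.1)) hv1])
        obtain rfl : v = v' := Subtype.ext e'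
        rfl
      · have hv1 : ((v.1 : A) : G) ≠ 1 := fun h => v.2 (Subtype.ext h)
        exact ⟨⟨⟨zpowers ((v.1 : A) : G), zpowers_le.2 v.1.2, card_zpowers_eq (hA.2 _ v.1.2) hv1⟩,
          ⟨⟨_, mem_zpowers _⟩, fun h => hv1 (congrArg Subtype.val h)⟩⟩, rfl⟩
    rw [← Nat.card_congr (Equiv.ofBijective f hf), Nat.card_sigma,
      Finset.sum_congr rfl (g := fun _ => p - 1) fun W _ => ?_, Finset.sum_const, Finset.card_univ,
      smul_eq_mul, ← Nat.card_eq_fintype_card]
    haveI := Fintype.ofFinite W.1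
    rw [Nat.card_eq_fintype_card, Fintype.card_subtype_compl, Fintype.card_subtype_eq,
      ← Nat.card_eq_fintype_card, W.2.2]
  rw [← e2, e1, ← Nat.sq_sub_sq p 1, one_pow]

/-- A group of odd order acting on `A` of order `p ^ 2` with a fixed point free quotient of order prime to `p`
induces an abelian group. -/
theorem comm_on_rank_two (hG : Cfsg.IsMinSimpleOddOrder G) {p : ℕ} [hp : Fact p.Prime] {L M A : Subgroup G}
    (hA : Tau2 p L A) (hAM : M ≤ normalizer (A : Set G)) (K : Subgroup G) (hKA : K ≤ centralizer (A : Set G))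
    (hfree : ∀ {m v : G}, m ∈ M → v ∈ A → v ≠ 1 → m * v * m⁻¹ = v → m ∈ K) {g m a : G} (hg : g ∈ M) (hm : m ∈ M)
    (ha : a ∈ A) : g * (m * a * m⁻¹) * g⁻¹ = m * (g * a * g⁻¹) * m⁻¹ := by
  set φ : M →* MulAut A := (autOf A).comp (inclusion hAM)
  have hker : φ.ker = K.subgroupOf M := by
    ext y
    rw [MonoidHom.mem_ker, mem_subgroupOf]
    refine (autOf_eq_one_iff A (inclusion hAM y)).trans ⟨fun hc => ?_, fun hy => hKA hy⟩
    obtain ⟨v, hv, hv1⟩ := hA.exists_ne_one
    refine hfree y.2 hv hv1 ?_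
    show (y : G) * v * (y : G)⁻¹ = v
    rw [mul_inv_eq_iff_eq_mul]
    exact (mem_centralizer_iff.1 hc v hv).symm
  have hcop : ¬ p ∣ Nat.card φ.range := by
    intro hd
    rw [← Subgroup.index_ker, hker] at hd
    have h1 : K.relIndex M ∣ Nat.card A - 1 := dvd_card_sub_one_of_stab A hAM K fun y hy v hv hv1 =>
      ⟨fun hc => hfree hy hv hv1 hc, fun hk => by
        rw [← mem_centralizer_iff.1 (hKA hk) v hv, mul_inv_cancel_right]⟩
    rw [hA.card] at h1
    exact hp.out.not_dvd_one ((Nat.dvd_sub_iff_right (Nat.one_le_pow 2 p hp.out.pos)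
      (dvd_pow_self p two_ne_zero)).1 (hd.trans h1))
  have hodd : Odd (Nat.card φ.range) := (Uniq.odd_subgroup hG M).of_dvd_nat (card_range_dvd φ)
  have hr : Cfsg.PRankLE p 2 A := fun B _ _ => Nat.le_of_dvd (pow_pos hp.out.pos 2)
    (hA.card ▸ card_subgroup_dvd_card B)
  have hc := RankTwoAut.commutator_isPGroup (hA.ne_two hG) hA.isPGroup hr (hodd) φ.range.subtype
    (by rw [(MonoidHom.ker_eq_bot_iff _).2 φ.range.subtype_injective]; exact IsPGroup.of_bot)
  have hbot : commutator φ.range = ⊥ := by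
    obtain ⟨i, hi⟩ := IsPGroup.iff_card.1 hc
    refine eq_bot_of_card_eq _ ?_
    rcases i with _ | i
    · simpa using hi
    · exact absurd ((dvd_pow_self p i.succ_ne_zero).trans (hi ▸ card_subgroup_dvd_card _)) hcop
  have key : φ.rangeRestrict ⟨g, hg⟩ * φ.rangeRestrict ⟨m, hm⟩ =
      φ.rangeRestrict ⟨m, hm⟩ * φ.rangeRestrict ⟨g, hg⟩ := by
    rw [← commutatorElement_eq_one_iff_mul_comm, ← mem_bot, ← hbot, _root_.commutator_def]
    exact commutator_mem_commutator (mem_top _) (mem_top _)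
  exact congrArg (fun f : φ.range => (((f : MulAut A) ⟨a, ha⟩ : A) : G)) key

end Cfsg.Lib.FT12
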