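import Cfsg.Agent.Lib.Local.Sigma.DadeSets
import Cfsg.Agent.Lib.Local.Sigma.TauTwoLines
import Cfsg.Agent.Lib.Local.Sigma.TauTwoNormal
import Cfsg.Agent.Lib.Local.Sigma.TauTwoInter
import Cfsg.Agent.Lib.Local.Sigma.Support
import Cfsg.Agent.Lib.Local.Sigma.MoverTools
import Cfsg.Agent.Lib.Coprime.Generation
import Cfsg.Agent.S1378
import Cfsg.Agent.S1420
import Cfsg.Agent.S1425
import Cfsg.Agent.S1432

/-!
Peterfalvi 12.16, the local set-up: a maximal subgroup `L` with `κ (L) = ∅` which is not a Frobenius group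
provides a prime `p`, a supported maximal subgroup `M`, and the data below.
-/

set_option autoImplicit false
set_option linter.style.haveILetI false
set_option linter.unusedSectionVars false

namespace Cfsg.Lib.FT12

open Subgroup Cfsg.Lib.Local Cfsg.Lib.Local.Uniq Cfsg.Lib.Local.Sigma
open scoped commutatorElement

universe u

variable {G : Type u} [Group G] [Finite G]

/-- `M` is a Frobenius group with kernel `M_σ`. -/
def IsFrob (M : Subgroup G) : Prop :=
  ∀ y ∈ Cfsg.sigmaCore M, y ≠ 1 → M ⊓ centralizer ({y} : Set G) ≤ Cfsg.sigmaCore M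

/-- A witness that `L` is not a Frobenius group with kernel `L_σ`. -/
structure Wit (p : ℕ) (L : Subgroup G) (x : G) : Prop where
  coatom : IsCoatom L
  free : Cfsg.kappa L = ∅
  mem : x ∈ L
  pow : x ^ p = 1
  ne_one : x ≠ 1
  tau : p ∈ Cfsg.tau2 L
  fix : Cfsg.sigmaCore L ⊓ centralizer ({x} : Set G) ≠ ⊥

theorem nilpotent_of_free (hG : Cfsg.IsMinSimpleOddOrder G) {M : Subgroup G} (hM : IsCoatom M)
    (hf : Cfsg.kappa M = ∅) : Group.IsNilpotent (Cfsg.sigmaCore M) := by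
  obtain ⟨K, U, hU⟩ := exists_decomposition hG hM
  have hK : K = ⊥ := by
    refine eq_bot_of_card_eq _ (by_contra fun h => ?_)
    obtain ⟨t, ht, htd⟩ := Nat.exists_prime_and_dvd h
    exact Set.notMem_empty t (hf ▸ hU.hall.2.1 t ht htd)
  exact (fixedfree_of_not_P1 hG hM
    (not_isP1_of_ne_bot hG hM hU ((ne_bot_or_ne_bot hG hM hU).resolve_left (fun h => h hK)))
    (decomp_hall hG hM hU)).2.1

theorem exists_wit (hG : Cfsg.IsMinSimpleOddOrder G) {M : Subgroup G} (hM : IsCoatom M)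
    (hf : Cfsg.kappa M = ∅) (hn : ¬ IsFrob M) : ∃ (r : ℕ) (c : G), r.Prime ∧ Wit r M c := by
  simp only [IsFrob, SetLike.le_def, not_forall, exists_prop] at hn
  obtain ⟨y, hy, hy1, a, ha, haσ⟩ := hn
  obtain ⟨r, hr, hrd, hrσ⟩ : ∃ r : ℕ, r.Prime ∧ r ∣ orderOf a ∧ r ∉ Cfsg.sigma M := by
    by_contra h
    push Not at h
    exact haσ (mem_sigmaCore_of_primes hG hM ha.1 h)
  set c := a ^ (orderOf a / r)
  have hco : orderOf c = r := orderOf_pow_orderOf_div (orderOf_pos a).ne' hrd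
  have hc1 : c ≠ 1 := fun e => hr.ne_one (by rw [← hco, e, orderOf_one])
  have hcy : c * y = y * c :=
    ((show Commute a y from mem_centralizer_singleton_iff.1 ha.2).pow_left _).eq
  refine ⟨r, c, hr, hM, hf, pow_mem ha.1 _, hco ▸ pow_orderOf_eq_one c, hc1, ?_,
    fun e => hy1 (mem_bot.1 (e.le ⟨hy, mem_centralizer_singleton_iff.2 hcy.symm⟩))⟩
  rcases Cfsg.Agent.S1432.result hG M hM y hy hy1 c ⟨pow_mem ha.1 _, mem_centralizer_singleton_iff.2 hcy⟩ hc1
    (fun t ht hd => by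
      rw [hco] at hd
      exact (Nat.prime_dvd_prime_iff_eq ht hr).1 hd ▸ hrσ) with ⟨h, -⟩ | ⟨h, -⟩
  · exact absurd (hf ▸ h r hr hco.symm.dvd) (Set.notMem_empty r)
  · exact h r hr hco.symm.dvd

/-- The standing data: `L` is not Frobenius at `x`, `M` is supported by `L` at `x` and is Frobenius. -/
structure Ctx (p : ℕ) (L M A : Subgroup G) (x h : G) : Prop where
  minimal : Cfsg.IsMinSimpleOddOrder G
  free : Cfsg.kappa L = ∅
  tau : Tau2 p L A
  x_mem : x ∈ A
  x_ne : x ≠ 1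
  h_mem : h ∈ Cfsg.sigmaCore L
  h_der : h ∉ ⁅Cfsg.sigmaCore L, Cfsg.sigmaCore L⁆
  h_comm : h * x = x * h
  coatomM : IsCoatom M
  p_sigma : p ∈ Cfsg.sigma M
  A_le : A ≤ M
  freeM : Cfsg.kappa M = ∅
  frob : IsFrob M

/-- The elements of order `p` in the centre of the Sylow `p`-subgroup of `M_σ`. -/
def zline (p : ℕ) (M A : Subgroup G) : Subgroup G :=
  A ⊓ centralizer ((core p (Cfsg.sigmaCore M) : Subgroup G) : Set G)

section Zline

variable {p : ℕ} [hp : Fact p.Prime] {L M A : Subgroup G}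

theorem A_le_core (hG : Cfsg.IsMinSimpleOddOrder G) (hA : Tau2 p L A) (hM : IsCoatom M)
    (hσ : p ∈ Cfsg.sigma M) (hf : Cfsg.kappa M = ∅) (hAM : A ≤ M) : A ≤ core p (Cfsg.sigmaCore M) :=
  le_core_of_nilpotent (nilpotent_of_free hG hM hf) hA.isPGroup (le_sigmaCore hG hM hσ hAM hA.isPGroup)

theorem zline_facts (hG : Cfsg.IsMinSimpleOddOrder G) (hA : Tau2 p L A) (hM : IsCoatom M)
    (hσ : p ∈ Cfsg.sigma M) (hf : Cfsg.kappa M = ∅) (hAM : A ≤ M) :
    zline p M A ≠ ⊥ ∧ zline p M A ≤ A ∧ M ≤ normalizer (zline p M A : Set G) ∧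
      Cfsg.sigmaCore M ≤ centralizer ((zline p M A : Subgroup G) : Set G) := by
  haveI := hA.elem.1
  set K := Cfsg.sigmaCore M
  set Pc := core p K
  have hn := nilpotent_of_free hG hM hf
  have hAP : A ≤ Pc := A_le_core hG hA hM hσ hf hAM
  have hPM : M ≤ normalizer (Pc : Set G) := by
    have h1 : K ≤ normalizer (Pc : Set G) := le_normalizer_core p K
    refine fun m hm => Core.mem_normalizer_iff_map_conj.2 (eq_of_le_of_card_ge ?_
      (Cfsg.Lib.Coprime.card_map_conj Pc m).ge)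
    exact le_core_of_nilpotent hn ((core_isPGroup p K).map _) (by
      rintro _ ⟨z, hz, rfl⟩
      exact (mem_normalizer_iff.1 (le_normalizer_sigmaCore M hm) z).1 (core_le p K hz))
  refine ⟨?_, inf_le_left, ?_, ?_⟩
  · obtain ⟨z, hz, hzp, hz1, hzc⟩ := exists_central (core_isPGroup p K) le_rfl Subgroup.le_normalizer
      (ne_bot_of_le_ne_bot hA.ne_bot hAP)
    exact fun e => hz1 (mem_bot.1 (e.le ⟨hA.maximal hG hzp (centralizer_le hAP hzc), hzc⟩))
  · intro m hm
    refine Core.mem_normalizer_iff_map_conj.2 (eq_of_le_of_card_ge ?_ (Cfsg.Lib.Coprime.card_map_conj _ m).ge)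
    rintro _ ⟨z, ⟨hzA, hzc⟩, rfl⟩
    have h1 : m * z * m⁻¹ ∈ centralizer ((Pc : Subgroup G) : Set G) :=
      (mem_normalizer_iff.1 (Uniq.normalizer_le_normalizer_centralizer Pc (hPM hm)) z).1 hzc
    exact ⟨hA.maximal hG (show (m * z * m⁻¹) ^ p = 1 by rw [conj_pow, hA.elem.2 z hzA, mul_one, mul_inv_cancel])
      (centralizer_le hAP h1), h1⟩
  · intro k hk
    refine mem_centralizer_iff.2 fun z hz => ?_
    obtain ⟨hzA, hzc⟩ := hz
    obtain ⟨a, b, ha, hb, rfl, hab⟩ : ∃ a b : G, a ∈ Pc ∧ b ∈ K ⊓ centralizer ((Pc : Subgroup G) : Set G) ∧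
        k = a * b ∧ a * b = b * a := by
      obtain ⟨a, b, hat, hbt, e, hc, hpa, hpb⟩ := exists_parts {p} k
      have hak : a ∈ K := zpowers_le.2 hk hat
      have hbk : b ∈ K := zpowers_le.2 hk hbt
      have haP : a ∈ Pc := by
        obtain ⟨i, hi⟩ : ∃ i, orderOf a = p ^ i := ⟨_, Nat.eq_prime_pow_of_unique_prime_dvd
          (orderOf_pos a).ne' fun {q} hq hd => hpa q hq hd⟩
        exact mem_core_of_nilpotent hn hak (k := i) (hi ▸ pow_orderOf_eq_one a)
      refine ⟨a, b, haP, ⟨hbk, mem_centralizer_iff.2 fun w hw => ?_⟩, e, hc⟩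
      haveI := hn
      obtain ⟨j, hj⟩ := pow_pow_eq_one (core_isPGroup p K) hw
      exact congrArg Subtype.val (Cfsg.Lib.PGroup.commute_of_coprime_orderOf (G := K) ⟨w, core_le p K hw⟩
        ⟨b, hbk⟩ (by
          rw [Subgroup.orderOf_mk, Subgroup.orderOf_mk]
          refine Nat.Coprime.coprime_dvd_left (orderOf_dvd_of_pow_eq_one hj) (Nat.Coprime.pow_left _ ?_)
          exact hp.out.coprime_iff_not_dvd.2 fun hd => hpb p hp.out hd rfl))
    have h1 : z * b = b * z := mem_centralizer_iff.1 hb.2 z (hAP hzA)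
    have h2 : z * a = a * z := (mem_centralizer_iff.1 hzc a ha).symm
    exact (Commute.mul_right (show Commute z a from h2) (show Commute z b from h1)).eq

end Zline

end Cfsg.Lib.FT12
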