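import Cfsg.Agent.Lib.Block.RegInt
import Cfsg.Agent.Lib.Char.Linear
import Cfsg.Agent.Lib.Char.Induced
import Mathlib.GroupTheory.PGroup

/-!
Congruences of character values modulo a prime above `p`, for Peterfalvi's Theorem 12.16.
-/

set_option autoImplicit false
set_option linter.unusedSectionVars false
set_option linter.style.haveILetI false

namespace Cfsg.Lib.FT12

open Cfsg Cfsg.Lib.Block Cfsg.Lib.Char

universe u

variable {p : ℕ} {P : Ideal AlgInt} (hP : IsPModular p P)

theorem res_eq_one_of_pow {z : ℂ} [Fact p.Prime] (hz : z ^ p = 1) : res hP z = 1 := by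
  have hi : IsIntegral ℤ z := IsIntegral.of_pow (Fact.out : p.Prime).pos (by rw [hz]; exact isIntegral_one)
  have h1 : res hP z ^ p = 1 := by
    rw [← res_pow hP (isIntegral_mem_locRing hP hi), hz, res_one]
  haveI : CharP (resField hP) p := resField_charP hP
  have h2 : (res hP z - 1) ^ p = 0 := by rw [sub_pow_char, h1, one_pow, sub_self]
  exact sub_eq_zero.1 (pow_eq_zero_iff (Fact.out : p.Prime).ne_zero |>.1 h2)

/-- `χ (x y) ≡ χ (y)` for commuting `x`, `y` with `x ^ p = 1`. -/
theorem res_mul_char {G : Type u} [Group G] [Finite G] [Fact p.Prime] {χ : G → ℂ} (hχ : IsCharacter G χ)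
    {x y : G} (hx : x ^ p = 1) (hc : Commute x y) : res hP (χ (x * y)) = res hP (χ y) := by
  classical
  let f : Subgroup.zpowers x × Subgroup.zpowers y →* G :=
    MonoidHom.noncommCoprod (Subgroup.zpowers x).subtype (Subgroup.zpowers y).subtype (by
      rintro ⟨a, ha⟩ ⟨b, hb⟩
      obtain ⟨i, rfl⟩ := Subgroup.mem_zpowers_iff.1 ha
      obtain ⟨j, rfl⟩ := Subgroup.mem_zpowers_iff.1 hb
      exact hc.zpow_zpow i j)
  set X : Subgroup.zpowers x := ⟨x, Subgroup.mem_zpowers x⟩
  set Y : Subgroup.zpowers y := ⟨y, Subgroup.mem_zpowers y⟩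
  obtain ⟨s, hs⟩ := (hχ.comp f).exists_multiset
  have hev : ∀ g, χ (f g) = (s.map fun φ => φ.1 g).sum := fun g => by
    have h := congrFun hs g
    rw [h]
    clear hs h
    induction s using Multiset.induction_on with
    | empty => rfl
    | cons φ s ih => simp only [Multiset.map_cons, Multiset.sum_cons, Pi.add_apply, ih]
  rw [show χ (x * y) = (s.map fun φ => φ.1 (X, Y)).sum by rw [← hev]; simp [f, X, Y],
    show χ y = (s.map fun φ => φ.1 (1, Y)).sum by rw [← hev]; simp [f, Y]]
  clear hev hs
  induction s using Multiset.induction_on with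
  | empty => rfl
  | cons φ s ih =>
    have hmem : ∀ g, φ.1 g ∈ locRing hP := fun g => isIntegral_mem_locRing hP (φ.2.isCharacter.isIntegral g)
    have hsum : ∀ g, (s.map fun ψ : IrrCharacter _ => ψ.1 g).sum ∈ locRing hP := fun g =>
      multiset_sum_mem _ fun z hz => by
        obtain ⟨ψ, -, rfl⟩ := Multiset.mem_map.1 hz
        exact isIntegral_mem_locRing hP (ψ.2.isCharacter.isIntegral g)
    simp only [Multiset.map_cons, Multiset.sum_cons]
    rw [res_add hP (hmem _) (hsum _), res_add hP (hmem _) (hsum _), ih]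
    congr 1
    have hcomm : ∀ a b : Subgroup.zpowers x × Subgroup.zpowers y, a * b = b * a := fun a b =>
      Prod.ext (mul_comm' _ _) (mul_comm' _ _)
    obtain ⟨l, hl⟩ := exists_hom_of_degree_one φ.2.isCharacter (degree_eq_one_of_comm hcomm φ.2)
    rw [hl]
    have hX : ((l (X, 1) : ℂˣ) : ℂ) ^ p = 1 := by
      rw [← Units.val_pow_eq_pow_val, ← map_pow, Prod.pow_mk, one_pow,
        show X ^ p = 1 from Subtype.ext hx, show ((1, 1) : Subgroup.zpowers x × Subgroup.zpowers y) = 1 from rfl,
        map_one, Units.val_one]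
    show res hP (l (X, Y) : ℂ) = res hP (l (1, Y) : ℂ)
    rw [show ((X, Y) : Subgroup.zpowers x × Subgroup.zpowers y) = (X, 1) * (1, Y) by simp, map_mul, Units.val_mul,
      res_mul hP, res_eq_one_of_pow hP hX, one_mul]
    · exact isIntegral_mem_locRing hP (IsIntegral.of_pow (Fact.out : p.Prime).pos (by rw [hX]; exact isIntegral_one))
    · have := hmem (1, Y)
      rwa [hl] at this

/-- The same for generalized characters. -/
theorem res_mul_gen {G : Type u} [Group G] [Finite G] [Fact p.Prime] {χ : G → ℂ}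
    (hχ : IsGeneralizedCharacter G χ) {x y : G} (hx : x ^ p = 1) (hc : Commute x y) :
    res hP (χ (x * y)) = res hP (χ y) := by
  obtain ⟨a, b, ha, hb, rfl⟩ := hχ
  have hm : ∀ {c : G → ℂ}, IsCharacter G c → ∀ g, c g ∈ locRing hP := fun h g =>
    isIntegral_mem_locRing hP (h.isIntegral g)
  simp only [Pi.sub_apply]
  rw [res_sub hP (hm ha _) (hm hb _), res_sub hP (hm ha _) (hm hb _), res_mul_char hP ha hx hc,
    res_mul_char hP hb hx hc]

/-- In characteristic `p` a sum invariant under a `p`-group is the sum over the fixed points. -/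
theorem sum_eq_sum_fixed {k : Type*} [Field k] [CharP k p] [Fact p.Prime] {Q α : Type*} [Group Q]
    [MulAction Q α] [Fintype α] (hQ : IsPGroup p Q) (f : α → k) (hf : ∀ (g : Q) a, f (g • a) = f a)
    [DecidablePred (· ∈ MulAction.fixedPoints Q α)] :
    ∑ a, f a = ∑ a with a ∈ MulAction.fixedPoints Q α, f a := by
  classical
  rw [← Finset.sum_fiberwise_of_maps_to (t := Finset.univ.image f) (g := f)
      fun a _ => Finset.mem_image_of_mem f (Finset.mem_univ a),
    ← Finset.sum_fiberwise_of_maps_to (s := Finset.univ.filter (· ∈ MulAction.fixedPoints Q α))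
      (t := Finset.univ.image f) (g := f) fun a _ => Finset.mem_image_of_mem f (Finset.mem_univ a)]
  refine Finset.sum_congr rfl fun v _ => ?_
  rw [Finset.sum_congr rfl (g := fun _ => v) fun a ha => (Finset.mem_filter.1 ha).2,
    Finset.sum_congr rfl (g := fun _ => v) fun a ha => (Finset.mem_filter.1 ha).2, Finset.sum_const,
    Finset.sum_const, nsmul_eq_mul, nsmul_eq_mul]
  congr 1
  let S : SubMulAction Q α := ⟨{a | f a = v}, fun g a (ha : f a = v) => (hf g a).trans ha⟩
  have h := hQ.card_modEq_card_fixedPoints S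
  have e1 : Nat.card S = (Finset.univ.filter fun a => f a = v).card := by
    rw [← Fintype.card_subtype, ← Nat.card_eq_fintype_card]; rfl
  have e2 : Nat.card (MulAction.fixedPoints Q S) =
      ((Finset.univ.filter (· ∈ MulAction.fixedPoints Q α)).filter fun a => f a = v).card := by
    rw [Finset.filter_filter, ← Fintype.card_subtype, ← Nat.card_eq_fintype_card]
    refine Nat.card_congr
      { toFun := fun a => ⟨(a.1 : α), fun g => congrArg Subtype.val (a.2 g), a.1.2⟩
        invFun := fun a => ⟨⟨a.1, a.2.2⟩, fun g => Subtype.ext (a.2.1 g)⟩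
        left_inv := fun a => rfl
        right_inv := fun a => rfl }
  rw [e1, e2] at h
  exact (CharP.natCast_eq_natCast k p).2 h

end Cfsg.Lib.FT12
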