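import Cfsg.Agent.Lib.OddOrder12.Kernel
import Cfsg.Agent.Lib.Char.SignedIrr
import Cfsg.Agent.S1379

/-!
Peterfalvi 12.16: the projection to `L` of the Dade images from `M`.
-/

set_option autoImplicit false
set_option linter.style.haveILetI false
set_option linter.unusedSectionVars false

namespace Cfsg.Lib.FT12

open Subgroup Cfsg.Lib Cfsg.Lib.Local Cfsg.Lib.Local.Uniq Cfsg.Lib.Local.Sigma Cfsg.Lib.Char Cfsg.Lib.Char.FT
open scoped commutatorElement ComplexConjugate

universe u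

theorem eq_zero_of_norm_zero {X : Type u} [Group X] [Fintype X] {f : X → ℂ} (h : classInner f f = 0) : f = 0 := by
  rw [classInner_self, Complex.ofReal_eq_zero, mul_eq_zero] at h
  have h' := h.resolve_left (inv_ne_zero (Nat.cast_ne_zero.2 Nat.card_pos.ne'))
  funext g
  have := (Finset.sum_eq_zero_iff_of_nonneg fun g _ => by positivity).1 h' g (Finset.mem_univ g)
  exact norm_eq_zero.1 (pow_eq_zero_iff two_ne_zero |>.1 this)

variable {G : Type u} [Group G] [Finite G] {p : ℕ} [hp : Fact p.Prime] {L M A : Subgroup G} {x h : G}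

namespace Ctx

/-- The projection of `L` onto the complement `M ∩ L`. -/
noncomputable def projE (c : Ctx p L M A x h) : L →* ↥(M ⊓ L) :=
  MonoidHom.mk'
    (fun a => ⟨(c.compl.compl.2.2.2 a a.2).choose, (c.compl.compl.2.2.2 a a.2).choose_spec.1⟩)
    (fun a b => Subtype.ext (by
      obtain ⟨ha, u, hu, eu⟩ := (c.compl.compl.2.2.2 a a.2).choose_spec
      obtain ⟨hb, v, hv, ev⟩ := (c.compl.compl.2.2.2 b b.2).choose_spec
      obtain ⟨hab, w, hw, ew⟩ := (c.compl.compl.2.2.2 (a * b : L) (a * b : L).2).choose_spec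
      set e₁ := (c.compl.compl.2.2.2 a a.2).choose
      set e₂ := (c.compl.compl.2.2.2 b b.2).choose
      set e₃ := (c.compl.compl.2.2.2 (a * b : L) (a * b : L).2).choose
      show e₃ = e₁ * e₂
      have h1 : ((a * b : L) : G) = (e₁ * e₂) * ((e₂⁻¹ * u * e₂) * v) := by
        rw [Subgroup.coe_mul, eu, ev]; group
      rw [ew] at h1
      have h2 : e₂⁻¹ * u * e₂ ∈ Cfsg.sigmaCore L := by
        simpa using (mem_normalizer_iff.1 (le_normalizer_sigmaCore L (inv_mem (Subgroup.mem_inf.1 hb).2)) u).1 hu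
      have h3 : (e₁ * e₂)⁻¹ * e₃ ∈ (M ⊓ L) ⊓ Cfsg.sigmaCore L := by
        refine Subgroup.mem_inf.2 ⟨mul_mem (inv_mem (mul_mem ha hb)) hab, ?_⟩
        have h4 : (e₁ * e₂)⁻¹ * e₃ = (e₁ * e₂)⁻¹ * (e₃ * w) * w⁻¹ := by group
        rw [h4, h1, inv_mul_cancel_left]
        exact mul_mem (mul_mem h2 hv) (inv_mem hw)
      rw [c.compl.compl.2.2.1, mem_bot, inv_mul_eq_one] at h3
      exact h3.symm))

theorem projE_spec (c : Ctx p L M A x h) (a : L) :
    ∃ u ∈ Cfsg.sigmaCore L, (a : G) = (c.projE a : G) * u :=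
  (c.compl.compl.2.2.2 a a.2).choose_spec.2

theorem projE_eq (c : Ctx p L M A x h) {a : L} {e u : G} (he : e ∈ M ⊓ L) (hu : u ∈ Cfsg.sigmaCore L)
    (hau : (a : G) = e * u) : (c.projE a : G) = e := by
  obtain ⟨v, hv, hav⟩ := c.projE_spec a
  rw [hau] at hav
  have h1 : (c.projE a : G)⁻¹ * e ∈ (M ⊓ L) ⊓ Cfsg.sigmaCore L := by
    refine Subgroup.mem_inf.2 ⟨mul_mem (inv_mem (c.projE a).2) he, ?_⟩
    rw [show (c.projE a : G)⁻¹ * e = (c.projE a : G)⁻¹ * (e * u) * u⁻¹ by group, hav, inv_mul_cancel_left]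
    exact mul_mem hv (inv_mem hu)
  rw [c.compl.compl.2.2.1, mem_bot, inv_mul_eq_one] at h1
  exact h1

theorem projE_eq_one_iff (c : Ctx p L M A x h) (a : L) : c.projE a = 1 ↔ (a : G) ∈ Cfsg.sigmaCore L := by
  constructor
  · intro h1
    obtain ⟨v, hv, hav⟩ := c.projE_spec a
    rw [hav, h1, Subgroup.coe_one, one_mul]
    exact hv
  · intro ha
    exact Subtype.ext (c.projE_eq (one_mem _) ha (one_mul _).symm)

/-- The restriction of `α` to `M ∩ L`. -/
def resE (α : M → ℂ) : ↥(M ⊓ L) → ℂ := fun e => α ⟨e, e.2.1⟩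

/-- The restriction of `α` to `M ∩ L`, inflated to `L`. -/
noncomputable def inflE (c : Ctx p L M A x h) (α : M → ℂ) : L → ℂ := fun a => resE α (c.projE a)

/-- An element of `L` outside `L_σ` is conjugate to a commuting product from `M ∩ L` and `L_σ`. -/
theorem exists_split (c : Ctx p L M A x h) (a : L) :
    ∃ v ∈ Cfsg.sigmaCore L, ∃ u ∈ Cfsg.sigmaCore L,
      u * (c.projE a : G) = (c.projE a : G) * u ∧ v * (a : G) * v⁻¹ = (c.projE a : G) * u := by
  obtain ⟨w, hw, haw⟩ := c.projE_spec a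
  set e := (c.projE a : G)
  have heN : e ∈ normalizer (Cfsg.sigmaCore L : Set G) := le_normalizer_sigmaCore L (c.projE a).2.2
  have hcop : (orderOf e).Coprime (Nat.card (Cfsg.sigmaCore L)) :=
    (c.compl.coprime c.minimal).coprime_dvd_left (Subgroup.orderOf_dvd_natCard _ (c.projE a).2)
  obtain ⟨v, hv, u, hu, hue, hvu⟩ := exists_conj_coset_centralizer (Cfsg.sigmaCore L) heN hcop
    ((mem_normalizer_iff.1 heN w).1 hw)
  refine ⟨v, hv, u, hu, hue, ?_⟩
  rw [← hue, ← hvu, haw]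
  group

variable [Fintype G] [Fintype M]

/-- The value of a Dade image from `M` at a commuting product `e u`. -/
theorem dade_value (c : Ctx p L M A x h) {α : M → ℂ} (hα : IsClassFunction M α) {e u : G} (he : e ∈ M ⊓ L)
    (he1 : e ≠ 1) (hu : u ∈ Cfsg.sigmaCore L) (hue : u * e = e * u) :
    dadeIsometry (afSet M) M (Cfsg.supportR M) α (e * u) = α ⟨e, he.1⟩ := by
  have hG := c.minimal
  have heσ : e ∈ Cfsg.sigmaCore M := c.inter_le he
  have heA : e ∈ afSet M := mem_afSet_of_mem heσ he1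
  refine dadeIsometry_eq c.frobData.dade hα (a := ⟨e, he.1⟩) heA (x := 1) (u := u) ?_ (by group)
  by_cases hu1 : u = 1
  · rw [hu1]; exact one_mem _
  show u ∈ Cfsg.supportR M e
  have huC : u ∈ centralizer ({e} : Set G) := mem_centralizer_singleton_iff.2 hue
  rcases supportR_cases hG c.coatomM heσ he1 with ⟨hle, -⟩ | ⟨N, hN, hR⟩
  · exact absurd (mem_bot.1 (c.inter.le ⟨hu, hle huC⟩)) hu1
  · have hNL : N = L := (c.unique_of_fixed he.2 he1
      (fun t ht hd => c.compl.not_mem_sigma hG ht (hd.trans (Subgroup.orderOf_dvd_natCard _ he))) hu hu1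
      hue.symm).2 N hN.coatom hN.le
    rw [hR, hNL]
    exact ⟨hu, huC⟩

theorem tilde_disjoint (c : Ctx p L M A x h) :
    Cfsg.tildeOf M ((Cfsg.sigmaCore M : Set G) \ {1}) ∩ Cfsg.tildeOf L ((Cfsg.sigmaCore L : Set G) \ {1}) = ∅ :=
  (Cfsg.Agent.S1379.result c.minimal).1 M L c.coatomM c.coatomL fun g => c.not_conj g

/-- The projection to `L` of a Dade image from `M`. -/
theorem proj_dade (c : Ctx p L M A x h) {α : M → ℂ} (hα : IsClassFunction M α) (hα1 : α 1 = 0) {a : L}
    (ha : (a : G) ∈ afSet L) :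
    dadeProj (afSet L) L (Cfsg.supportR L) (dadeIsometry (afSet M) M (Cfsg.supportR M) α) a = c.inflE α a := by
  classical
  have hG := c.minimal
  set D := dadeIsometry (afSet M) M (Cfsg.supportR M) α
  have hdM := c.frobData
  by_cases haσ : (a : G) ∈ Cfsg.sigmaCore L
  · rw [inflE, (c.projE_eq_one_iff a).2 haσ]
    show _ = α ⟨((1 : ↥(M ⊓ L)) : G), _⟩
    rw [show (⟨((1 : ↥(M ⊓ L)) : G), (1 : ↥(M ⊓ L)).2.1⟩ : M) = 1 from rfl, hα1]
    rw [dadeProj_of_mem _ ha, Finset.sum_eq_zero fun r _ => ?_, mul_zero]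
    refine dadeIsometry_eq_zero fun b hb y v hv e => ?_
    have hbσ : b ∈ kerM M ∧ b ≠ 1 := (hdM.mem_iff b).1 hb
    refine Set.eq_empty_iff_forall_notMem.1 c.tilde_disjoint _
      ⟨mem_tildeOf_of_hit hbσ.1 hb.2.1 hv e, ?_⟩
    exact mem_tildeOf_of_hit haσ ha.2.1 r.2 (x := 1) (by group)
  · rw [dadeProj_of_bot _ ha (supportR_of_le (afSet_outside hG c.coatomL c.free ha haσ).1)]
    obtain ⟨v, -, u, hu, hue, hva⟩ := c.exists_split a
    have hDc : IsClassFunction G D := isClassFunction_dadeIsometry hdM.dade hα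
    rw [← hDc (a : G) v, hva]
    exact c.dade_value hα (c.projE a).2
      (fun e => haσ ((c.projE_eq_one_iff a).1 (Subtype.ext e))) hu hue

variable [Fintype L] {τ₁ : (M → ℂ) → (G → ℂ)}

/-- The projection to `L` of `τ₁ χ`. -/
noncomputable def projL (τ₁ : (M → ℂ) → (G → ℂ)) (χ : M → ℂ) : L → ℂ :=
  dadeProj (afSet L) L (Cfsg.supportR L) (τ₁ χ)

theorem dadeL (c : Ctx p L M A x h) : DadeHypothesis (afSet L) L (Cfsg.supportR L) :=
  dade_af c.minimal c.coatomL c.free

/-- Proportionality of the products with a function orthogonal to the inflations. -/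
theorem projL_proportional (c : Ctx p L M A x h) (hτ : Extends (afSet M) M (Cfsg.supportR M) (kerM M) τ₁)
    {β : L → ℂ} (hβA : ∀ a : L, (a : G) ∉ afSet L → β a = 0)
    (horth : ∀ α ∈ zspanOn (irrNontrivialOn (kerM M)) {1}ᶜ, classInner (c.inflE α) β = 0)
    {χ ξ : M → ℂ} (hχ : χ ∈ irrNontrivialOn (kerM M)) (hξ : ξ ∈ irrNontrivialOn (kerM M)) :
    ξ 1 * classInner (projL τ₁ χ) β = χ 1 * classInner (projL τ₁ ξ) β := by
  classical
  have d := c.frobData
  obtain ⟨m, n, hm, hn, -, hα⟩ := d.exists_diff hχ hξ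
  have h0 : classInner (dadeProj (afSet L) L (Cfsg.supportR L)
      (τ₁ ((n : ℂ) • χ - (m : ℂ) • ξ))) β = 0 := by
    rw [hτ.2 _ hα, ← horth _ hα]
    refine congrArg (HMul.hMul _) (Finset.sum_congr rfl fun a _ => ?_)
    by_cases ha : (a : G) ∈ afSet L
    · rw [c.proj_dade (d.props hα.1).1 (mem_zspanOn_one.1 hα).2 ha]
    · rw [hβA a ha, map_zero, mul_zero, mul_zero]
  rw [hτ.map_sub_smul hχ hξ, dadeProj_sub, dadeProj_smul, dadeProj_smul, classInner_sub_left, classInner_smul_left,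
    classInner_smul_left, sub_eq_zero] at h0
  rw [hm, hn]
  exact h0

/-- The Bessel inequality against a function orthogonal to the inflations. -/
theorem projL_bessel (c : Ctx p L M A x h) (hτ : Extends (afSet M) M (Cfsg.supportR M) (kerM M) τ₁)
    {β : L → ℂ} (hβ : IsClassFunction L β) (hβA : ∀ a : L, (a : G) ∉ afSet L → β a = 0)
    (horth : ∀ α ∈ zspanOn (irrNontrivialOn (kerM M)) {1}ᶜ, classInner (c.inflE α) β = 0)
    {χ₀ : M → ℂ} (hχ₀ : χ₀ ∈ irrNontrivialOn (kerM M)) (hd : χ₀ 1 = ((kerM M).index : ℂ)) :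
    ((Nat.card (kerM M) : ℝ) - 1) * ‖classInner (projL τ₁ χ₀) β‖ ^ 2 ≤
      ((kerM M).index : ℝ) * (classInner β β).re := by
  classical
  set K := kerM M
  set v := classInner (projL τ₁ χ₀) β
  set b := dadeIsometry (afSet L) L (Cfsg.supportR L) β
  have hbb : classInner b b = classInner β β :=
    classInner_dadeIsometry_dadeIsometry c.dadeL hβ hβA hβ
  set T := (irrNontrivialOn_finite K).toFinset with hT
  have hB := sum_norm_sq_le T τ₁ (fun a ha b hb => hτ.inner ((Set.Finite.mem_toFinset _).1 ha)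
    ((Set.Finite.mem_toFinset _).1 hb)) b
  rw [hbb] at hB
  have hterm : ∀ ξ ∈ T, (((‖classInner b (τ₁ ξ)‖ ^ 2 : ℝ)) : ℂ) * ((K.index : ℂ) * K.index) =
      (((‖v‖ ^ 2 : ℝ)) : ℂ) * (ξ 1 * ξ 1) := by
    intro ξ hξ
    have hξ' := (Set.Finite.mem_toFinset _).1 hξ
    obtain ⟨n, -, hn⟩ := hξ'.1.exists_degree
    have h1 := c.projL_proportional hτ hβA horth hχ₀ hξ'
    have h2 : classInner b (τ₁ ξ) = conj (classInner (projL τ₁ ξ) β) := by
      rw [classInner_conj_symm, classInner_dade_proj c.dadeL hβ hβA (hτ.gen hξ').isClassFunction]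
      rfl
    rw [h2, RCLike.norm_conj, Complex.ofReal_pow, Complex.ofReal_pow, ← Complex.mul_conj', ← Complex.mul_conj']
    rw [hd] at h1
    have h3 := congrArg conj h1
    rw [hn, map_mul, map_mul, Complex.conj_natCast, Complex.conj_natCast] at h3
    rw [hn] at h1 ⊢
    linear_combination (-((n : ℂ) * conj v)) * h1 - (((K.index : ℂ)) * classInner (projL τ₁ ξ) β) * h3
  have hsum : ((∑ ξ ∈ T, ‖classInner b (τ₁ ξ)‖ ^ 2 : ℝ) : ℂ) * ((K.index : ℂ) * K.index) =
      (((‖v‖ ^ 2 : ℝ)) : ℂ) * ((Nat.card M : ℂ) - K.index) := by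
    rw [Complex.ofReal_sum, Finset.sum_mul, Finset.sum_congr rfl hterm, ← Finset.mul_sum, hT,
      sum_sq_irrNontrivialOn]
  have key : (∑ ξ ∈ T, ‖classInner b (τ₁ ξ)‖ ^ 2 : ℝ) * ((K.index : ℝ) * K.index) =
      ‖v‖ ^ 2 * ((Nat.card K : ℝ) * K.index - K.index) := by
    rw [← K.card_mul_index] at hsum
    push_cast at hsum
    exact_mod_cast hsum
  have he' : (0 : ℝ) < K.index := by exact_mod_cast Nat.pos_of_ne_zero Subgroup.index_ne_zero_of_finite
  refine le_of_mul_le_mul_right ?_ he'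
  nlinarith [mul_le_mul_of_nonneg_right hB (mul_pos he' he').le]

/-- The principal part of `g` is real on `L_σ`. -/
theorem projL_real (c : Ctx p L M A x h) (hτ : Extends (afSet M) M (Cfsg.supportR M) (kerM M) τ₁)
    {χ : M → ℂ} (hχ : χ ∈ irrNontrivialOn (kerM M)) {a : L} (ha : (a : G) ∈ Cfsg.sigmaCore L) (ha1 : (a : G) ≠ 1) :
    conj (projL τ₁ χ a) = projL τ₁ χ a := by
  classical
  have d := c.frobData
  set χ' := conjFun χ
  have hχ' : χ' ∈ irrNontrivialOn (kerM M) := irrNontrivialOn_conjFun hχ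
  have hne : χ' ≠ χ := irrNontrivialOn_conjFun_ne (Uniq.odd_subgroup c.minimal M) hχ
  have hα : χ - χ' ∈ zspanOn (irrNontrivialOn (kerM M)) {1}ᶜ := by
    refine mem_zspanOn_one.2 ⟨zspan_sub (mem_zspan_self hχ) (mem_zspan_self hχ'), ?_⟩
    obtain ⟨n, -, hn⟩ := hχ.1.exists_degree
    simp [χ', conjFun, hn]
  set ψ := τ₁ χ
  set ψ' := τ₁ χ'
  have hdiff : τ₁ (χ - χ') = ψ - ψ' := by
    simpa using hτ.map_sub_smul hχ hχ' 1 1
  have hD : conjFun (τ₁ (χ - χ')) = -τ₁ (χ - χ') := by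
    rw [hτ.2 _ hα]
    funext g
    show conj _ = -_
    simp only [dadeIsometry]
    split_ifs
    · simp [χ', conjFun]
    · simp
  rw [hdiff] at hD
  have hC : conjFun ψ - conjFun ψ' = ψ' - ψ := by
    funext g
    have := congrFun hD g
    simp only [conjFun, Pi.sub_apply, Pi.neg_apply, map_sub] at this ⊢
    linear_combination this
  have hcψ : IsGeneralizedCharacter G (conjFun ψ) := by
    obtain ⟨u, v, hu, hv, e⟩ := hτ.gen hχ
    exact ⟨conjFun u, conjFun v, hu.conjFn, hv.conjFn, by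
      funext g
      show conj (τ₁ χ g) = _
      rw [e]; simp [conjFun]⟩
  have n1 : classInner ψ ψ = 1 := by rw [hτ.inner hχ hχ, if_pos rfl]
  have n1' : classInner ψ' ψ' = 1 := by rw [hτ.inner hχ' hχ', if_pos rfl]
  have n0 : classInner ψ ψ' = 0 := by rw [hτ.inner hχ hχ', if_neg hne.symm]
  have nc : classInner (conjFun ψ) (conjFun ψ) = 1 := (classInner_conjFn ψ ψ).trans n1
  have nc' : classInner (conjFun ψ') (conjFun ψ) = 0 := (classInner_conjFn ψ' ψ).trans n0
  have e1 : classInner ψ' (conjFun ψ) - classInner ψ (conjFun ψ) = 1 := by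
    rw [← classInner_sub_left, ← hC, classInner_sub_left, nc, nc', sub_zero]
  obtain ⟨i, hi⟩ := (hτ.gen hχ).exists_int_classInner hcψ
  obtain ⟨j, hj⟩ := (hτ.gen hχ').exists_int_classInner hcψ
  have hbound : ∀ {f : G → ℂ} {z : ℤ}, classInner f f = 1 → classInner f (conjFun ψ) = z →
      z * z ≤ 1 := by
    intro f z hf hz
    have := sum_norm_sq_le (Finset.univ : Finset Unit) (fun _ => conjFun ψ) (fun a _ b _ => by
      rw [nc, if_pos (Subsingleton.elim a b)]) f
    rw [hf, Finset.univ_unique, Finset.sum_singleton, hz, Complex.norm_intCast, sq_abs, Complex.one_re] at this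
    exact_mod_cast (by rwa [pow_two] at this : (z : ℝ) * z ≤ 1)
  have hi' := hbound n1 hi
  have hj' := hbound n1' hj
  have hij : j - i = 1 := by
    rw [hi, hj] at e1
    exact_mod_cast e1
  have hine : i ≠ -1 := by
    intro hi1
    have hz : ψ + conjFun ψ = 0 := by
      refine eq_zero_of_norm_zero ?_
      rw [classInner_add_left, classInner_add_right, classInner_add_right, n1, nc, hi, hi1,
        classInner_symm_int (hi1 ▸ hi)]
      push_cast; ring
    obtain ⟨ε, ν, rfl | rfl, hν⟩ := exists_signed_irr_of_norm_one (hτ.gen hχ) n1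
    all_goals
      obtain ⟨n, hn0, hn⟩ := ν.2.exists_degree
      have := congrFun hz 1
      simp [ψ, hν, conjFun, hn] at this
      omega
  have hj1 : j = 1 := by
    have : -1 ≤ i := by nlinarith
    have : j ≤ 1 := by nlinarith
    omega
  have heq : ψ' - conjFun ψ = 0 := by
    refine eq_zero_of_norm_zero ?_
    rw [classInner_sub_left, classInner_sub_right, classInner_sub_right, n1', nc, hj, hj1,
      classInner_symm_int (hj1 ▸ hj)]
    push_cast; ring
  rw [sub_eq_zero] at heq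
  have haA : (a : G) ∈ afSet L := mem_afSet_of_mem ha ha1
  have h0 : projL τ₁ χ a - projL τ₁ χ' a = 0 := by
    have := c.proj_dade (d.props hα.1).1 (mem_zspanOn_one.1 hα).2 haA
    rw [← hτ.2 _ hα, hdiff, dadeProj_sub] at this
    rw [inflE, (c.projE_eq_one_iff a).2 ha] at this
    refine this.trans ?_
    exact (mem_zspanOn_one.1 hα).2
  rw [sub_eq_zero] at h0
  conv_rhs => rw [h0, projL, show τ₁ χ' = conjFun ψ from heq, dadeProj_conj]
  rfl

end Ctx

end Cfsg.Lib.FT12
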