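import Cfsg.Agent.Lib.OddOrder12.Values

/-!
Peterfalvi 12.16: the contradiction from the linear characters of `L_σ`.
-/

set_option autoImplicit false
set_option linter.style.haveILetI false
set_option linter.unusedSectionVars false

namespace Cfsg.Lib.FT12

open Subgroup Cfsg.Lib Cfsg.Lib.Local Cfsg.Lib.Local.Uniq Cfsg.Lib.Local.Sigma Cfsg.Lib.Char Cfsg.Lib.Char.FT
open Cfsg.Lib.Block (res res_sum res_mul res_natCast res_intCast resField resField_charP locRing
  natCast_mem_locRing exists_isPModular)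
open scoped commutatorElement ComplexConjugate

universe u

variable {G : Type u} [Group G] [Finite G] {p : ℕ} [hp : Fact p.Prime] {L M A : Subgroup G} {x h : G}

/-- The kernel of `L` as a subgroup of `L`. -/
abbrev kerL (L : Subgroup G) : Subgroup L := (Cfsg.sigmaCore L).subgroupOf L

instance kerL_normal : (kerL L).Normal :=
  (normal_subgroupOf_iff_le_normalizer (sigmaCore_le L)).2 (le_normalizer_sigmaCore L)

/-- The sum of all linear characters at an element. -/
theorem sum_linear_eq {H : Type u} [Group H] [Finite H] [Fintype (H →* ℂˣ)] (z : H) [Decidable (z ∈ commutator H)] :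
    ∑ θ : H →* ℂˣ, (θ z : ℂ) = if z ∈ commutator H then ((commutator H).index : ℂ) else 0 := by
  by_cases hz : z ∈ commutator H
  · rw [if_pos hz, Finset.sum_congr rfl (g := fun _ => 1) fun θ _ => by
      rw [MonoidHom.mem_ker.1 (Abelianization.commutator_subset_ker θ hz), Units.val_one], Finset.sum_const,
      Finset.card_univ, nsmul_eq_mul, mul_one, ← Nat.card_eq_fintype_card, card_linear_eq_index]
  · rw [if_neg hz]
    haveI : Finite (Abelianization H) := Quotient.finite _
    haveI := Fintype.ofFinite (Abelianization H)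
    have hz1 : Abelianization.of z ≠ 1 := fun e => hz (by
      rw [← Abelianization.ker_of]; exact e)
    obtain ⟨η, hη⟩ : ∃ η : IrrCharacter (Abelianization H),
        (η : Abelianization H → ℂ) (Abelianization.of z) ≠ (η : Abelianization H → ℂ) 1 := by
      by_contra hno
      push Not at hno
      obtain ⟨w, hw⟩ := isConj_iff.1 ((isConj_iff_forall_irr (Abelianization.of z) 1).2 hno)
      rw [mul_comm w, mul_inv_cancel_right] at hw
      exact hz1 hw
    obtain ⟨l, hl⟩ := exists_hom_of_degree_one η.2.isCharacter (degree_eq_one_of_comm mul_comm η.2)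
    set φ := l.comp Abelianization.of
    have hφ : (φ z : ℂ) ≠ 1 := fun e => hη (by
      rw [hl]; show ((l (Abelianization.of z) : ℂˣ) : ℂ) = ((l 1 : ℂˣ) : ℂ)
      rw [map_one, Units.val_one]; exact e)
    have h1 : ∑ θ : H →* ℂˣ, (θ z : ℂ) = (φ z : ℂ) * ∑ θ : H →* ℂˣ, (θ z : ℂ) := by
      rw [Finset.mul_sum]
      exact (Fintype.sum_equiv (Equiv.mulLeft φ) _ _ fun θ => by simp).symm
    have h2 : (1 - (φ z : ℂ)) * ∑ θ : H →* ℂˣ, (θ z : ℂ) = 0 := by linear_combination h1
    exact (mul_eq_zero.1 h2).resolve_left (sub_ne_zero.2 (Ne.symm hφ))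

/-- The numerical contradiction. -/
theorem arith {e k m : ℝ} {t A₁ S N : ℝ} (he : 3 ≤ e) (hk : 25 ≤ k) (hm : 11 ≤ m) (ht : (e - 1) ^ 2 ≤ t ^ 2)
    (hN : A₁ ^ 2 + (m - 1) * S ^ 2 ≤ N) (hNk : N * (k - 1) ≤ k * e) (htri : |t| ≤ A₁ + S) : False := by
  have h1 : t ^ 2 ≤ (A₁ + S) ^ 2 := by
    have := mul_self_le_mul_self (abs_nonneg t) htri
    nlinarith [sq_abs t]
  have h2 : t ^ 2 * (m - 1) ≤ m * N := by
    nlinarith [mul_le_mul_of_nonneg_right h1 (by linarith : (0 : ℝ) ≤ m - 1), sq_nonneg (A₁ - (m - 1) * S),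
      mul_le_mul_of_nonneg_left hN (by linarith : (0 : ℝ) ≤ m)]
  have h3 : t ^ 2 * (m - 1) * (k - 1) ≤ m * (k * e) := by
    nlinarith [mul_le_mul_of_nonneg_right h2 (by linarith : (0 : ℝ) ≤ k - 1),
      mul_le_mul_of_nonneg_left hNk (by linarith : (0 : ℝ) ≤ m)]
  have hpos : 0 < (m - 1) * (k - 1) := mul_pos (by linarith) (by linarith)
  have h4 : m * (k * e) * 240 ≤ (m - 1) * (k - 1) * (275 * e) := by
    have h5 : 10 * m ≤ 11 * (m - 1) := by linarith
    have h6 : 24 * k ≤ 25 * (k - 1) := by linarith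
    nlinarith [mul_le_mul_of_nonneg_right (mul_le_mul h5 h6 (by linarith) (by linarith)) (by linarith : (0 : ℝ) ≤ e)]
  have h7 : 275 * e < 240 * (e - 1) ^ 2 := by nlinarith
  nlinarith [mul_lt_mul_of_pos_left h7 hpos, mul_le_mul_of_nonneg_left ht hpos.le]

namespace Ctx

theorem card_L (c : Ctx p L M A x h) :
    Nat.card (kerL L) * Nat.card ↥(M ⊓ L) = Nat.card L := by
  have hker : c.projE.ker = kerL L := by
    ext a
    rw [MonoidHom.mem_ker, mem_subgroupOf]
    exact c.projE_eq_one_iff a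
  have h1 : (kerL L).index = Nat.card ↥(M ⊓ L) := by
    rw [← hker, Subgroup.index_ker, MonoidHom.range_eq_top.2 c.projE_surjective]
    exact Nat.card_congr topEquiv.toEquiv
  rw [← h1, card_mul_index]

variable [Fintype G] [Fintype M] [Fintype L] {τ₁ : (M → ℂ) → (G → ℂ)}

set_option maxHeartbeats 1600000 in
theorem absurd_aux (c : Ctx p L M A x h) (hτ : Extends (afSet M) M (Cfsg.supportR M) (kerM M) τ₁)
    {χ₀ : M → ℂ} (hχ₀ : χ₀ ∈ irrNontrivialOn (kerM M)) (hd : χ₀ 1 = ((kerM M).index : ℂ)) : False := by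
  classical
  obtain ⟨P, hP⟩ := exists_isPModular hp.out
  haveI : CharP (resField hP) p := resField_charP hP
  have hG := c.minimal
  set H := kerL L
  haveI := Fintype.ofFinite H
  set g : L → ℂ := projL τ₁ χ₀
  have hgc : IsClassFunction L g := c.projL_isClassFunction hτ hχ₀
  have hg1 : g 1 = 0 := dadeProj_of_notMem _ fun h1 => h1.2.1 rfl
  set gH : H → ℂ := fun y => g y
  haveI := Fintype.ofFinite (H →* ℂˣ)
  set aθ : (H →* ℂˣ) → ℂ := fun θ => classInner gH (fun y => (θ y : ℂ))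
  -- the norm
  set g₁ : L → ℂ := fun a => if (a : G) ∈ Cfsg.sigmaCore L then g a else 0 with hg₁
  have hσconj : ∀ (a l : L), (((l * a * l⁻¹ : L)) : G) ∈ Cfsg.sigmaCore L ↔ (a : G) ∈ Cfsg.sigmaCore L :=
    fun a l => ((mem_normalizer_iff.1 (le_normalizer_sigmaCore L l.2)) a).symm
  have hg₁c : IsClassFunction L g₁ := fun a l => by simp only [hg₁, hσconj, hgc a l]
  have hg₁A : ∀ a : L, (a : G) ∉ afSet L → g₁ a = 0 := fun a ha => by
    simp only [hg₁]
    split_ifs
    · exact dadeProj_of_notMem _ ha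
    · rfl
  have horth : ∀ α ∈ zspanOn (irrNontrivialOn (kerM M)) {1}ᶜ, classInner (c.inflE α) g₁ = 0 := by
    intro α hα
    rw [classInner, Finset.sum_eq_zero fun a _ => ?_, mul_zero]
    by_cases ha : (a : G) ∈ Cfsg.sigmaCore L
    · rw [inflE, (c.projE_eq_one_iff a).2 ha]
      show α 1 * _ = 0
      rw [(mem_zspanOn_one.1 hα).2, zero_mul]
    · simp [hg₁, ha]
  have hgg : classInner g g₁ = classInner g₁ g₁ := by
    refine congrArg (HMul.hMul _) (Finset.sum_congr rfl fun a _ => ?_)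
    by_cases ha : (a : G) ∈ Cfsg.sigmaCore L
    · simp [hg₁, ha]
    · simp [hg₁, ha]
  set S := (classInner g₁ g₁).re
  have hSnn : 0 ≤ S := classInner_self_nonneg g₁
  set e := (kerM M).index
  set k := Nat.card (kerM M)
  have hB := c.projL_bessel hτ hg₁c hg₁A horth hχ₀ hd
  have hnormS : ‖classInner g g₁‖ = S := by
    rw [hgg, show classInner g₁ g₁ = (S : ℂ) from (by
      simp only [S]; rw [classInner_self, Complex.ofReal_re]), Complex.norm_real, Real.norm_of_nonneg hSnn]
  have hB' : ((k : ℝ) - 1) * S ≤ e := by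
    rw [show classInner (projL τ₁ χ₀) g₁ = classInner g g₁ from rfl, hnormS] at hB
    change ((k : ℝ) - 1) * S ^ 2 ≤ (e : ℝ) * S at hB
    rcases eq_or_lt_of_le hSnn with h0 | h0
    · rw [← h0, mul_zero]; positivity
    · exact le_of_mul_le_mul_right (by rw [mul_assoc, ← pow_two]; exact hB) h0
  obtain ⟨hk2, hEk, -⟩ := c.card_ker
  have h5 := c.five_le
  obtain ⟨heodd, he3, he2⟩ := c.index_bound
  rw [← c.index_ker] at he3 he2
  change 3 ≤ e at he3
  change 2 * e ≤ p + 1 at he2
  have hk25 : 25 ≤ k := le_trans (by nlinarith) hk2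
  set N := (classInner gH gH).re
  have hN : N = (Nat.card ↥(M ⊓ L) : ℝ) * S := by
    have hsum : ∑ a : L, ‖g₁ a‖ ^ 2 = ∑ y : H, ‖gH y‖ ^ 2 := by
      rw [← Finset.sum_subtype (Finset.univ.filter (fun a : L => (a : G) ∈ Cfsg.sigmaCore L))
        (p := fun a => a ∈ H) (fun a => by simp [H, mem_subgroupOf]) (fun a => ‖g a‖ ^ 2), Finset.sum_filter]
      refine Finset.sum_congr rfl fun a _ => ?_
      simp only [hg₁]
      split_ifs <;> simp
    simp only [N, S, classInner_self, Complex.ofReal_re]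
    rw [hsum, ← c.card_L, Nat.cast_mul, mul_inv, ← mul_assoc, mul_comm (Nat.card ↥(M ⊓ L) : ℝ), mul_assoc _ _⁻¹,
      inv_mul_cancel₀ (Nat.cast_ne_zero.2 Nat.card_pos.ne'), mul_one]
  have hNk : N * ((k : ℝ) - 1) ≤ (k : ℝ) * e := by
    have h1 : (Nat.card ↥(M ⊓ L) : ℝ) ≤ k := by exact_mod_cast hEk
    rw [hN, mul_assoc, mul_comm S]
    exact mul_le_mul h1 hB' (mul_nonneg (by
      have : (25 : ℝ) ≤ k := by exact_mod_cast hk25
      linarith) hSnn) (by positivity)
  have hNp : N < p := by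
    have hk' : (25 : ℝ) ≤ k := by exact_mod_cast hk25
    have h1 : (k : ℝ) * e < ((e : ℝ) + 1) * ((k : ℝ) - 1) := by
      have : (e : ℝ) + 1 < k := by
        have := c.big
        change e * (e + 1) + 1 < k at this
        have h2 : e + 1 < k := by nlinarith
        exact_mod_cast h2
      nlinarith
    have h2 : (e : ℝ) + 1 ≤ p := by
      have : e + 1 ≤ p := by omega
      exact_mod_cast this
    by_contra hle
    push Not at hle
    nlinarith [mul_le_mul_of_nonneg_right (h2.trans hle) (by linarith : (0 : ℝ) ≤ (k : ℝ) - 1)]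
  -- Bessel
  have hBθ : ∀ T : Finset (H →* ℂˣ), ∑ θ ∈ T, ‖aθ θ‖ ^ 2 ≤ N := fun T =>
    sum_norm_sq_le T (fun θ y => (θ y : ℂ)) (fun a _ b _ => by
      rw [classInner_irr (isIrrCharacter_linear a) (isIrrCharacter_linear b)]
      by_cases hab : a = b
      · rw [if_pos (by rw [hab]), if_pos hab]
      · rw [if_neg fun e => hab (linearChar_injective e), if_neg hab]) gH
  -- differences
  have hdiff : ∀ θ θ' : H →* ℂˣ, ∃ z : ℤ, aθ θ - aθ θ' = z := by
    intro θ θ'
    set β : L → ℂ := indFun H (fun y => (θ y : ℂ)) - indFun H (fun y => (θ' y : ℂ))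
    have hβ : IsGeneralizedCharacter L β :=
      (isCharacter_indFun H (isIrrCharacter_linear θ).isCharacter).isGeneralized.sub
        (isCharacter_indFun H (isIrrCharacter_linear θ').isCharacter).isGeneralized
    have hβA : ∀ a : L, (a : G) ∉ afSet L → β a = 0 := fun a ha => by
      by_cases haH : a ∈ H
      · have ha1 : a = 1 := by_contra fun hne => ha (mem_afSet_of_mem haH fun e => hne (Subtype.ext e))
        simp [β, ha1, indFun_apply_one]
      · simp [β, indFun_normal_of_notMem H _ haH]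
    obtain ⟨z, hz⟩ := c.projL_int hτ hχ₀ hβ hβA
    refine ⟨z, ?_⟩
    rw [← hz, classInner_sub_right, classInner_indFun_right H _ hgc, classInner_indFun_right H _ hgc]
  have hreal : ∀ y : H, conj (gH y) = gH y := by
    intro y
    by_cases hy : ((y : L) : G) = 1
    · show conj (g y) = g y
      rw [show (y : L) = 1 from Subtype.ext hy, hg1, map_zero]
    · exact c.projL_real hτ hχ₀ y.2 hy
  have hinv : ∀ θ : H →* ℂˣ, aθ θ⁻¹ = aθ θ := by
    intro θ
    have hc : aθ θ⁻¹ = conj (aθ θ) := by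
      simp only [aθ, classInner, map_mul, map_inv₀, Complex.conj_natCast, map_sum, Complex.conj_conj, hreal]
      refine congrArg (HMul.hMul _) (Finset.sum_congr rfl fun y _ => ?_)
      congr 1
      rw [MonoidHom.inv_apply, Units.val_inv_eq_inv_val]
      obtain ⟨n, hn, hpow⟩ := isOfFinOrder_iff_pow_eq_one.1 (θ.isOfFinOrder (isOfFinOrder_of_finite y))
      have hnorm : ‖(θ y : ℂ)‖ = 1 :=
        Complex.norm_eq_one_of_pow_eq_one (by rw [← Units.val_pow_eq_pow_val, hpow, Units.val_one]) hn.ne'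
      rw [Complex.inv_eq_conj hnorm, Complex.conj_conj]
    obtain ⟨z, hz⟩ := hdiff θ⁻¹ θ
    have h1 := congrArg Complex.re hz
    rw [hc, Complex.sub_re, Complex.conj_re, sub_self, Complex.intCast_re] at h1
    have hz0 : z = 0 := by exact_mod_cast h1.symm
    rwa [hz0, Int.cast_zero, sub_eq_zero] at hz
  -- the action of `A`
  set AL := A.subgroupOf L
  have hAcard : IsPGroup p AL := c.tau.isPGroup.of_equiv (subgroupOfEquivOfLe c.tau.le).symm
  letI : MulAction AL (H →* ℂˣ) :=
    { smul := fun q θ => θ.comp (MulAut.conjNormal ((q : L)⁻¹) : H ≃* H).toMonoidHom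
      one_smul := fun θ => MonoidHom.ext fun y => congrArg θ (Subtype.ext (by simp))
      mul_smul := fun a b θ => MonoidHom.ext fun y => congrArg θ (Subtype.ext (by simp [mul_assoc])) }
  have hsm : ∀ (q : AL) (θ : H →* ℂˣ) (y : H), (q • θ) y = θ ((MulAut.conjNormal ((q : L)⁻¹) : H ≃* H) y) :=
    fun _ _ _ => rfl
  have hinvA : ∀ (q : AL) (θ : H →* ℂˣ), aθ (q • θ) = aθ θ := by
    intro q θ
    simp only [aθ, classInner, hsm]
    refine congrArg (HMul.hMul _) (Fintype.sum_equiv (MulAut.conjNormal ((q : L)⁻¹) : H ≃* H).toEquiv _ _ fun y => ?_)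
    congr 1
    show g y = g _
    rw [MulEquiv.toEquiv_eq_coe, MulEquiv.coe_toEquiv, MulAut.conjNormal_apply]
    exact (hgc _ _).symm
  have hfixA : ∀ θ : H →* ℂˣ, (∀ q : AL, q • θ = θ) → θ = 1 := by
    intro θ hθ
    refine MonoidHom.ext fun y => ?_
    rw [MonoidHom.one_apply]
    letI : MulAction AL {z : H // θ z = θ y} :=
      { smul := fun q z => ⟨(MulAut.conjNormal (q : L) : H ≃* H) z, by
          have := DFunLike.congr_fun (hθ q⁻¹) z.1
          rw [hsm] at this
          simpa [z.2] using this⟩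
        one_smul := fun z => Subtype.ext (Subtype.ext (by
          show ((MulAut.conjNormal ((1 : AL) : L) : H ≃* H) z.1 : L) = _
          simp))
        mul_smul := fun a b z => Subtype.ext (Subtype.ext (by
          show ((MulAut.conjNormal (((a * b : AL)) : L) : H ≃* H) z.1 : L) =
            ((MulAut.conjNormal (a : L) : H ≃* H) ((MulAut.conjNormal (b : L) : H ≃* H) z.1) : L)
          simp [mul_assoc])) }
    have hsmz : ∀ (q : AL) (z : {z : H // θ z = θ y}),
        (q • z).1 = (MulAut.conjNormal (q : L) : H ≃* H) z.1 := fun _ _ => rfl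
    have hcardfib : ¬ p ∣ Nat.card {z : H // θ z = θ y} := by
      rw [Nat.card_congr (show {z : H // θ z = θ y} ≃ θ.ker from
        { toFun := fun z => ⟨y⁻¹ * z.1, by rw [MonoidHom.mem_ker, map_mul, map_inv, z.2, inv_mul_cancel]⟩
          invFun := fun z => ⟨y * z.1, by rw [map_mul, MonoidHom.mem_ker.1 z.2, mul_one]⟩
          left_inv := fun z => Subtype.ext (by simp)
          right_inv := fun z => Subtype.ext (by simp) })]
      intro hdvd
      have h1 : p ∣ Nat.card (Cfsg.sigmaCore L) :=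
        (hdvd.trans (card_subgroup_dvd_card _)).trans
          (dvd_of_eq (Nat.card_congr (subgroupOfEquivOfLe (sigmaCore_le L)).toEquiv))
      exact c.tau.not_sigma (sigmaCore_isPiSub L p hp.out h1)
    obtain ⟨z, hz⟩ : (MulAction.fixedPoints AL {z : H // θ z = θ y}).Nonempty := by
      by_contra hno
      have := hAcard.card_modEq_card_fixedPoints {z : H // θ z = θ y}
      rw [Set.not_nonempty_iff_eq_empty.1 hno, Nat.card_eq_fintype_card (α := (∅ : Set _)),
        Fintype.card_of_isEmpty] at this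
      exact hcardfib (Nat.modEq_zero_iff_dvd.1 this)
    have hz1 : ((z.1 : L) : G) ∈ Cfsg.sigmaCore L ⊓ centralizer (A : Set G) := by
      refine Subgroup.mem_inf.2 ⟨z.1.2, mem_centralizer_iff.2 fun q hq => ?_⟩
      have h1 := congrArg (fun w : {z : H // θ z = θ y} => ((w.1 : L) : G))
        (hz ⟨⟨q, c.tau.le hq⟩, hq⟩)
      simp only [hsmz, MulAut.conjNormal_apply] at h1
      simpa using mul_inv_eq_iff_eq_mul.1 h1
    rw [c.tau.fixedfree hG, mem_bot] at hz1
    rw [← z.2, show z.1 = 1 from Subtype.ext (Subtype.ext hz1), map_one]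
  have hodd : Odd (Nat.card H) := (Uniq.odd_subgroup hG L).of_dvd_nat (card_subgroup_dvd_card H)
  have hinv_ne : ∀ θ : H →* ℂˣ, θ ≠ 1 → θ⁻¹ ≠ θ := by
    intro θ hθ e
    refine hθ (MonoidHom.ext fun y => ?_)
    rw [MonoidHom.one_apply]
    have h2 : θ y ^ 2 = 1 := by
      rw [pow_two]
      nth_rewrite 1 [← e]
      rw [MonoidHom.inv_apply, inv_mul_cancel]
    obtain ⟨j, hj⟩ := hodd
    have h3 : θ y ^ Nat.card H = 1 := by rw [← map_pow, pow_card_eq_one', map_one]
    rwa [hj, pow_succ, pow_mul, h2, one_pow, one_mul] at h3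
  -- level sets
  have hlevel : ∀ v : ℂ, ∀ θ : H →* ℂˣ, θ ≠ 1 → aθ θ = v →
      2 * p ≤ (Finset.univ.filter fun η : H →* ℂˣ => η ≠ 1 ∧ aθ η = v).card := by
    intro v θ hθ hv
    set T := Finset.univ.filter fun η : H →* ℂˣ => η ≠ 1 ∧ aθ η = v
    have heven : 2 ∣ T.card := by
      have h0 : (∑ _η ∈ T, (1 : ZMod 2)) = 0 := by
        refine Finset.sum_involution (fun η _ => η⁻¹) (fun η _ => by decide) (fun η hη _ => ?_) (fun η hη => ?_)
          (fun η _ => inv_inv η)
        · exact hinv_ne η (Finset.mem_filter.1 hη).2.1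
        · obtain ⟨-, h1, h2⟩ := Finset.mem_filter.1 hη
          exact Finset.mem_filter.2 ⟨Finset.mem_univ _, fun e => h1 (MonoidHom.ext fun y => inv_eq_one.1 (DFunLike.congr_fun e y)), (hinv η).trans h2⟩
      rw [Finset.sum_const, nsmul_eq_mul, mul_one] at h0
      exact (ZMod.natCast_eq_zero_iff _ _).1 h0
    have hone : ∀ q : AL, q • (1 : H →* ℂˣ) = 1 := fun q => MonoidHom.ext fun y => by simp [hsm]
    let Tm : SubMulAction AL (H →* ℂˣ) := ⟨{η | η ≠ 1 ∧ aθ η = v}, fun q η hη =>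
      ⟨fun e => hη.1 (by
        have := congrArg (fun f => q⁻¹ • f) e
        simpa [hone] using this), (hinvA q η).trans hη.2⟩⟩
    have hpd : p ∣ T.card := by
      have h1 := hAcard.card_modEq_card_fixedPoints Tm
      have h2 : Nat.card (MulAction.fixedPoints AL Tm) = 0 := by
        haveI : IsEmpty (MulAction.fixedPoints AL Tm) :=
          ⟨fun η => η.1.2.1 (hfixA _ fun q => congrArg Subtype.val (η.2 q))⟩
        exact Nat.card_of_isEmpty
      have h3 : Nat.card Tm = T.card := by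
        rw [← Fintype.card_subtype, ← Nat.card_eq_fintype_card]; rfl
      rw [h2, h3] at h1
      exact Nat.modEq_zero_iff_dvd.1 h1
    refine Nat.le_of_dvd (Finset.card_pos.2 ⟨θ, Finset.mem_filter.2 ⟨Finset.mem_univ _, hθ, hv⟩⟩) ?_
    exact Nat.Coprime.mul_dvd_of_dvd_of_dvd
      ((Nat.coprime_primes Nat.prime_two hp.out).2 c.p_ne_two.symm) heven hpd
  have hcls : ∀ θ θ' : H →* ℂˣ, θ ≠ 1 → θ' ≠ 1 → aθ θ = aθ θ' := by
    intro θ θ' hθ hθ'
    by_contra hne
    obtain ⟨z, hz⟩ := hdiff θ θ'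
    have hz0 : z ≠ 0 := fun e => hne (sub_eq_zero.1 (by rw [hz, e, Int.cast_zero]))
    set T := Finset.univ.filter fun η : H →* ℂˣ => η ≠ 1 ∧ aθ η = aθ θ
    set T' := Finset.univ.filter fun η : H →* ℂˣ => η ≠ 1 ∧ aθ η = aθ θ'
    have hdisj : Disjoint T T' := Finset.disjoint_filter.2 fun η _ h1 h2 => hne (h1.2.symm.trans h2.2)
    have hb := hBθ (T ∪ T')
    rw [Finset.sum_union hdisj, Finset.sum_congr rfl (g := fun _ => ‖aθ θ‖ ^ 2) fun η hη => by
        rw [(Finset.mem_filter.1 hη).2.2], Finset.sum_const,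
      Finset.sum_congr rfl (g := fun _ => ‖aθ θ'‖ ^ 2) fun η hη => by
        rw [(Finset.mem_filter.1 hη).2.2], Finset.sum_const, nsmul_eq_mul, nsmul_eq_mul] at hb
    have h1 : (2 * p : ℝ) ≤ T.card := by exact_mod_cast hlevel _ θ hθ rfl
    have h2 : (2 * p : ℝ) ≤ T'.card := by exact_mod_cast hlevel _ θ' hθ' rfl
    have h3 : (1 : ℝ) ≤ ‖aθ θ - aθ θ'‖ := by
      rw [hz, Complex.norm_intCast]; exact_mod_cast Int.one_le_abs hz0
    have h4 := norm_sub_le (aθ θ) (aθ θ')
    nlinarith [mul_le_mul_of_nonneg_right h1 (sq_nonneg ‖aθ θ‖), mul_le_mul_of_nonneg_right h2 (sq_nonneg ‖aθ θ'‖),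
      sq_nonneg (‖aθ θ‖ - ‖aθ θ'‖), mul_self_le_mul_self zero_le_one (h3.trans h4)]
  -- the coset of `h`
  set hH : H := ⟨⟨h, sigmaCore_le L c.h_mem⟩, c.h_mem⟩
  set D := commutator H
  have hhD : hH ∉ D := by
    intro hm
    refine c.h_der ?_
    have h1 : ((hH : L) : G) ∈ (D.map H.subtype).map L.subtype := mem_map_of_mem _ (mem_map_of_mem _ hm)
    rw [map_subtype_commutator, map_commutator] at h1
    have e : H.map L.subtype = Cfsg.sigmaCore L := map_subgroupOf_eq_of_le (sigmaCore_le L)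
    rw [e] at h1
    exact h1
  have hsep : ∃ θ : H →* ℂˣ, θ ≠ 1 := by
    by_contra hno
    push Not at hno
    have h0 := sum_linear_eq hH
    rw [if_neg hhD, Finset.sum_congr rfl (g := fun _ => (1 : ℂ)) fun θ _ => by rw [hno θ]; simp,
      Finset.sum_const, nsmul_eq_mul, mul_one, Nat.cast_eq_zero, Finset.card_eq_zero] at h0
    exact Finset.univ_nonempty.ne_empty h0
  obtain ⟨θ₁, hθ₁⟩ := hsep
  set s := aθ θ₁
  obtain ⟨t, ht⟩ := hdiff 1 θ₁
  set m := Fintype.card (H →* ℂˣ)
  have hm11 : 11 ≤ m := by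
    have h1 := hlevel s θ₁ hθ₁ rfl
    have h2 : (Finset.univ.filter fun η : H →* ℂˣ => η ≠ 1 ∧ aθ η = s).card < m :=
      Finset.card_lt_univ_of_notMem (x := 1) fun hh => (Finset.mem_filter.1 hh).2.1 rfl
    omega
  -- the two evaluations
  have hsum1 : ∑ θ : H →* ℂˣ, aθ θ * (θ hH : ℂ) = t := by
    rw [← Finset.add_sum_erase _ _ (Finset.mem_univ (1 : H →* ℂˣ)),
      Finset.sum_congr rfl (g := fun θ : H →* ℂˣ => s * (θ hH : ℂ)) fun θ hθ => by
        rw [hcls θ θ₁ (Finset.ne_of_mem_erase hθ) hθ₁], ← Finset.mul_sum,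
      Finset.sum_erase_eq_sub (Finset.mem_univ _), sum_linear_eq hH, if_neg hhD, MonoidHom.one_apply, Units.val_one,
      mul_one]
    linear_combination ht
  set C := Finset.univ.filter fun y : H => y⁻¹ * hH ∈ D
  have hsum2 : ∑ θ : H →* ℂˣ, aθ θ * (θ hH : ℂ) =
      (Nat.card H : ℂ)⁻¹ * (D.index : ℂ) * ∑ y ∈ C, gH y := by
    simp only [aθ, classInner, Finset.mul_sum, Finset.sum_mul]
    rw [Finset.sum_comm]
    rw [Finset.sum_filter]
    refine Finset.sum_congr rfl fun y _ => ?_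
    have e : ∀ θ : H →* ℂˣ, conj (θ y : ℂ) * (θ hH : ℂ) = (θ (y⁻¹ * hH) : ℂ) := by
      intro θ
      obtain ⟨n, hn, hpow⟩ := isOfFinOrder_iff_pow_eq_one.1 (θ.isOfFinOrder (isOfFinOrder_of_finite y))
      have hnorm : ‖(θ y : ℂ)‖ = 1 :=
        Complex.norm_eq_one_of_pow_eq_one (by rw [← Units.val_pow_eq_pow_val, hpow, Units.val_one]) hn.ne'
      rw [map_mul, map_inv, Units.val_mul, Units.val_inv_eq_inv_val, Complex.inv_eq_conj hnorm]
    rw [Finset.sum_congr rfl (g := fun θ : H →* ℂˣ => ((Nat.card H : ℂ)⁻¹ * gH y) * (θ (y⁻¹ * hH) : ℂ)) fun θ _ => by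
      rw [← e]; ring, ← Finset.mul_sum, sum_linear_eq]
    split_ifs <;> ring
  have hD0 : (D.index : ℂ) ≠ 0 := Nat.cast_ne_zero.2 index_ne_zero_of_finite
  have hcoset : ∑ y ∈ C, gH y = (Nat.card D : ℂ) * t := by
    rw [hsum1] at hsum2
    rw [hsum2, ← D.card_mul_index]
    push_cast
    have hDc : (Nat.card D : ℂ) ≠ 0 := Nat.cast_ne_zero.2 Nat.card_pos.ne'
    field_simp
  -- the congruence
  set x' : L := ⟨x, c.tau.le c.x_mem⟩
  have hx'h : (MulAut.conjNormal x' : H ≃* H) hH = hH := Subtype.ext (Subtype.ext (by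
    rw [MulAut.conjNormal_apply]
    show x * h * x⁻¹ = h
    rw [← c.h_comm, mul_inv_cancel_right]))
  set Q := zpowers x'
  have hQ : IsPGroup p Q := by
    refine IsPGroup.of_card (n := 1) ?_
    rw [Nat.card_zpowers, ← orderOf_injective L.subtype L.subtype_injective x', pow_one]
    exact orderOf_eq c.x_pow c.x_ne
  have hfixh : ∀ q : Q, (MulAut.conjNormal (q : L) : H ≃* H) hH = hH := by
    intro q
    obtain ⟨i, hi⟩ := mem_zpowers_iff.1 q.2
    rw [← hi]
    refine Subtype.ext (Subtype.ext ?_)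
    rw [MulAut.conjNormal_apply]
    show ((x' ^ i : L) : G) * h * ((x' ^ i : L) : G)⁻¹ = h
    rw [Subgroup.coe_zpow, ((show Commute x h from c.h_comm.symm).zpow_left i).eq, mul_inv_cancel_right]
  letI : MulAction Q {y : H // y⁻¹ * hH ∈ D} :=
    { smul := fun q y => ⟨(MulAut.conjNormal (q : L) : H ≃* H) y, by
        have h := mem_comap.1 ((Subgroup.Characteristic.fixed (H := D) inferInstance (MulAut.conjNormal (q : L))).ge y.2)
        simpa [hfixh q] using h⟩
      one_smul := fun y => Subtype.ext (Subtype.ext (by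
        show ((MulAut.conjNormal ((1 : Q) : L) : H ≃* H) y.1 : L) = _
        simp))
      mul_smul := fun a b y => Subtype.ext (Subtype.ext (by
        show ((MulAut.conjNormal (((a * b : Q)) : L) : H ≃* H) y.1 : L) =
          ((MulAut.conjNormal (a : L) : H ≃* H) ((MulAut.conjNormal (b : L) : H ≃* H) y.1) : L)
        simp [mul_assoc])) }
  have hsmy : ∀ (q : Q) (y : {y : H // y⁻¹ * hH ∈ D}),
      (q • y).1 = (MulAut.conjNormal (q : L) : H ≃* H) y.1 := fun _ _ => rfl
  have hfix : ∀ y ∈ MulAction.fixedPoints Q {y : H // y⁻¹ * hH ∈ D},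
      res hP (gH y.1) = (e : resField hP) := by
    intro y hy
    have h1 := congrArg (fun w : {y : H // y⁻¹ * hH ∈ D} => ((w.1 : L) : G)) (hy ⟨x', mem_zpowers x'⟩)
    simp only [hsmy, MulAut.conjNormal_apply] at h1
    have h1' : x * ((y.1 : L) : G) * x⁻¹ = ((y.1 : L) : G) := h1
    refine c.projL_cong hP hτ hχ₀ hd y.1.2 (fun e1 => hhD ?_) (mul_inv_eq_iff_eq_mul.1 h1').symm
    have := y.2
    rwa [show y.1 = 1 from Subtype.ext (Subtype.ext e1), inv_one, one_mul] at this
  have hmem : ∀ y : {y : H // y⁻¹ * hH ∈ D}, gH y.1 ∈ locRing hP := fun y =>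
    c.projL_mem_locRing hP hτ hχ₀ _
  have hcard : Nat.card {y : H // y⁻¹ * hH ∈ D} = Nat.card D :=
    Nat.card_congr
      { toFun := fun y => ⟨y.1⁻¹ * hH, y.2⟩
        invFun := fun z => ⟨hH * (z : H)⁻¹, by simpa [mul_assoc] using z.2⟩
        left_inv := fun y => Subtype.ext (by simp [mul_assoc])
        right_inv := fun z => Subtype.ext (by simp [mul_assoc]) }
  have hres : res hP (∑ y : {y : H // y⁻¹ * hH ∈ D}, gH y.1) = (Nat.card D : resField hP) * (e : resField hP) := by
    rw [res_sum hP _ _ fun y _ => hmem y, sum_eq_sum_fixed hQ _ fun q y => ?_,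
      Finset.sum_congr rfl (g := fun _ => (e : resField hP)) fun y hy => hfix y (Finset.mem_filter.1 hy).2,
      Finset.sum_const, nsmul_eq_mul]
    · congr 1
      refine (CharP.natCast_eq_natCast (resField hP) p).2 ?_
      have := hQ.card_modEq_card_fixedPoints {y : H // y⁻¹ * hH ∈ D}
      rw [hcard] at this
      rw [← Fintype.card_subtype, ← Nat.card_eq_fintype_card]
      exact this.symm
    · congr 1
      rw [hsmy]
      show g _ = g _
      rw [MulAut.conjNormal_apply]
      exact hgc _ _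
  have hDp : ¬ p ∣ Nat.card D := fun hd' => c.tau.not_sigma (sigmaCore_isPiSub L p hp.out
    ((hd'.trans (card_subgroup_dvd_card _)).trans
      (dvd_of_eq (Nat.card_congr (subgroupOfEquivOfLe (sigmaCore_le L)).toEquiv))))
  have htmod : (p : ℤ) ∣ t - e := by
    rw [← CharP.intCast_eq_zero_iff (resField hP) p, Int.cast_sub, Int.cast_natCast, sub_eq_zero]
    have h1 : res hP ((Nat.card D : ℂ) * (t : ℂ)) = (Nat.card D : resField hP) * (e : resField hP) := by
      rw [← hcoset, ← hres]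
      congr 1
      exact (Finset.sum_subtype C (fun y => by simp [C]) gH)
    rw [res_mul hP (natCast_mem_locRing hP _) (intCast_mem (locRing hP) _), res_natCast, res_intCast] at h1
    refine mul_left_cancel₀ (fun h0 => hDp ?_) h1
    exact (CharP.cast_eq_zero_iff (resField hP) p _).1 h0
  have ht2 : ((e : ℝ) - 1) ^ 2 ≤ (t : ℝ) ^ 2 := by
    obtain ⟨n, hn⟩ := htmod
    have h1 : (t : ℝ) = e + p * n := by
      have : (t : ℤ) = e + p * n := by linarith
      exact_mod_cast this
    have h2 : (2 * e : ℝ) ≤ p + 1 := by exact_mod_cast he2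
    have he' : (3 : ℝ) ≤ e := by exact_mod_cast he3
    rcases le_or_gt 0 n with hn0 | hn0
    · have : (0 : ℝ) ≤ p * (n : ℝ) := mul_nonneg (by positivity) (by exact_mod_cast hn0)
      exact pow_le_pow_left₀ (by linarith) (by linarith) 2
    · have h3 : (p : ℝ) * (n : ℝ) ≤ -p := by
        have : (n : ℝ) ≤ -1 := by exact_mod_cast Int.le_sub_one_of_lt hn0
        nlinarith [show (0 : ℝ) ≤ p by positivity]
      rw [← neg_sq (t : ℝ)]
      exact pow_le_pow_left₀ (by linarith) (by linarith) 2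
  -- the final inequality
  refine arith (e := (e : ℝ)) (k := (k : ℝ)) (m := (m : ℝ)) (A₁ := ‖aθ 1‖) (S := ‖s‖) (N := N)
    (by exact_mod_cast he3) (by exact_mod_cast hk25) (by exact_mod_cast hm11) ht2 ?_ hNk ?_
  · refine le_trans (le_of_eq ?_) (hBθ Finset.univ)
    rw [← Finset.add_sum_erase _ _ (Finset.mem_univ (1 : H →* ℂˣ)),
      Finset.sum_congr rfl (g := fun _ => ‖s‖ ^ 2) fun θ hθ => by
        rw [hcls θ θ₁ (Finset.ne_of_mem_erase hθ) hθ₁], Finset.sum_const, Finset.card_erase_of_mem (Finset.mem_univ _),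
      Finset.card_univ, nsmul_eq_mul, Nat.cast_sub (by omega), Nat.cast_one]
  · rw [← Complex.norm_intCast, ← ht]
    exact norm_sub_le _ _

/-- There is no set-up. -/
theorem absurd' (c : Ctx p L M A x h) : False := by
  obtain ⟨τ₁, hτ⟩ := c.exists_extends
  obtain ⟨χ₀, hχ₀, hd⟩ := c.exists_linear
  exact c.absurd_aux hτ hχ₀ hd

end Ctx

end Cfsg.Lib.FT12
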