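import Cfsg.Agent.Lib.OddOrder12.Setup
import Cfsg.Agent.Lib.OddOrder12.Orbit
import Cfsg.Agent.Lib.Local.RankTwoAut
import Cfsg.Agent.S1545

/-!
Peterfalvi 12.16, the local consequences of the set-up: `M ∩ L ≤ M_σ` and `|M : M_σ| ≤ (p + 1) / 2`;
and the choice of the set-up from a witness with the smallest prime.
-/

set_option autoImplicit false
set_option linter.style.haveILetI false
set_option linter.unusedSectionVars false

namespace Cfsg.Lib.FT12

open Subgroup Cfsg.Lib.Local Cfsg.Lib.Local.Uniq Cfsg.Lib.Local.Sigma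
open scoped commutatorElement

universe u

variable {G : Type u} [Group G] [Finite G] {p : ℕ} [hp : Fact p.Prime] {L M A : Subgroup G} {x h : G}

/-- A prime dividing `p ^ 2 - 1` (as `r ∣ p ^ i - p ^ j`) is small. -/
theorem lt_of_dvd_sq_sub_one {r : ℕ} (hr : r.Prime) (hr2 : r ≠ 2) (h : r ∣ (p - 1) * (p + 1)) (hp2 : p ≠ 2) :
    r < p := by
  have hpo : Odd p := hp.out.odd_of_ne_two hp2
  have hro : Odd r := hr.odd_of_ne_two hr2
  have h3 := hp.out.two_le
  rcases hr.dvd_mul.1 h with h1 | h1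
  · have := Nat.le_of_dvd (by omega) h1
    omega
  · obtain ⟨k, hk⟩ := h1
    obtain ⟨a, ha⟩ := hpo
    obtain ⟨b, hb⟩ := hro
    rcases k with _ | _ | k
    · omega
    · omega
    · nlinarith

/-- A witness for `M` has a prime below `p`. -/
theorem wit_lt (hG : Cfsg.IsMinSimpleOddOrder G) (hA : Tau2 p L A) (hσ : p ∈ Cfsg.sigma M) (hAM : A ≤ M)
    {r : ℕ} (hr : r.Prime) {c : G} (hw : Wit r M c) : r < p := by
  haveI := Fact.mk hr
  have hM := hw.coatom
  obtain ⟨EM, hEM⟩ := Compl.exists hG hM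
  obtain ⟨B, -, hB⟩ := hEM.exists_tau_two hG hw.tau
  obtain ⟨hV1, hVA, hVM, -⟩ := zline_facts hG hA hM hσ hw.free hAM
  set V := zline p M A
  have hVK : V ≤ Cfsg.sigmaCore M := hVA.trans (le_sigmaCore hG hM hσ hAM hA.isPGroup)
  obtain ⟨b, hbB, hbV⟩ : ∃ b ∈ B, b ∉ centralizer (V : Set G) := by
    by_contra hno
    push Not at hno
    exact hV1 (le_bot_iff.1 ((le_inf hVK (le_centralizer_iff.1 hno)).trans (hB.fixedfree hG).le))
  have hbN : zpowers b ≤ normalizer (V : Set G) := zpowers_le.2 (hVM (hB.le hbB))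
  letI : MulAction (zpowers b) V := MulAction.compHom V ((autOf V).comp (inclusion hbN))
  have hsm : ∀ (g : zpowers b) (v : V), (((g • v : V)) : G) = g * v * (g : G)⁻¹ := fun g v => rfl
  have hQ : IsPGroup r (zpowers b) := IsPGroup.of_card (n := 1) (by
    rw [card_zpowers_eq (hB.elem.2 b hbB) fun e => hbV (e ▸ one_mem _), pow_one])
  have hmod := hQ.card_modEq_card_fixedPoints V
  let F : Subgroup G := V ⊓ centralizer ({b} : Set G)
  have hF : Nat.card (MulAction.fixedPoints (zpowers b) V) = Nat.card F := by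
    refine Nat.card_congr
      { toFun := fun v => ⟨(v : V), ⟨(v : V).2, mem_centralizer_singleton_iff.2 ?_⟩⟩
        invFun := fun v => ⟨⟨v, v.2.1⟩, fun g => Subtype.ext ?_⟩
        left_inv := fun v => rfl
        right_inv := fun v => rfl }
    · have h1 := congrArg Subtype.val (v.2 ⟨b, mem_zpowers b⟩)
      rw [hsm, mul_inv_eq_iff_eq_mul] at h1
      exact h1.symm
    · rw [hsm, mul_inv_eq_iff_eq_mul]
      obtain ⟨i, hi⟩ := mem_zpowers_iff.1 g.2
      rw [← hi]
      exact ((show Commute b (v : G) from (mem_centralizer_singleton_iff.1 v.2.2).symm).zpow_left i).eq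
  rw [hF] at hmod
  obtain ⟨i, hi⟩ := IsPGroup.iff_card.1 (hA.isPGroup.to_le hVA)
  obtain ⟨j, hj⟩ := IsPGroup.iff_card.1 (hA.isPGroup.to_le ((inf_le_left : F ≤ V).trans hVA))
  have hi2 : i ≤ 2 := (Nat.pow_le_pow_iff_right hp.out.one_lt).1
    (hi ▸ (card_le_of_le hVA).trans hA.card.le)
  have hji : j < i := by
    refine (Nat.pow_lt_pow_iff_right hp.out.one_lt).1 (hi ▸ hj ▸ ?_)
    refine lt_of_le_of_ne (card_le_of_le inf_le_left) fun e => hbV (mem_centralizer_iff.2 fun v hv => ?_)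
    have h1 : v ∈ F := (eq_of_le_of_card_ge (inf_le_left : F ≤ V) e.ge).ge hv
    exact mem_centralizer_singleton_iff.1 h1.2
  rw [hi, hj] at hmod
  have hd := (Nat.modEq_iff_dvd' (Nat.pow_le_pow_right hp.out.pos hji.le)).1 hmod.symm
  rw [show p ^ i = p ^ j * p ^ (i - j) by rw [← pow_add, Nat.add_sub_cancel' hji.le], ← Nat.mul_sub_one] at hd
  have hrp : r ≠ p := fun e => hw.tau.2.1 (e ▸ hσ)
  have hd' : r ∣ p ^ (i - j) - 1 :=
    (Nat.Coprime.dvd_mul_left (((Nat.coprime_primes hr hp.out).2 hrp).pow_right j)).1 hd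
  refine lt_of_dvd_sq_sub_one hr (Uniq.ne_two hG ?_) ?_ (hA.ne_two hG)
  · exact (hB.dvd_card).trans B.card_subgroup_dvd_card
  · obtain h1 | h1 : i - j = 1 ∨ i - j = 2 := by omega
    · rw [h1, pow_one] at hd'
      exact hd'.mul_right _
    · rw [h1] at hd'
      rwa [mul_comm, ← Nat.sq_sub_sq, one_pow]

namespace Ctx

theorem coatomL (c : Ctx p L M A x h) : IsCoatom L := c.tau.coatom

theorem not_conj (c : Ctx p L M A x h) (g : G) : L ≠ cj g M := by
  intro e
  refine c.tau.not_sigma (mem_sigma_of_conj e.symm c.p_sigma ?_)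
  exact c.tau.dvd_card.trans (card_dvd_of_le c.tau.le)

theorem ne (c : Ctx p L M A x h) : M ≠ L := fun e => c.not_conj 1 (by rw [cj_one, e])

theorem inter (c : Ctx p L M A x h) : Cfsg.sigmaCore L ⊓ M = ⊥ :=
  c.tau.inter c.minimal c.coatomM c.ne c.A_le

theorem h_ne (c : Ctx p L M A x h) : h ≠ 1 := fun e => c.h_der (e ▸ one_mem _)

theorem x_pow (c : Ctx p L M A x h) : x ^ p = 1 := c.tau.elem.2 x c.x_mem

theorem x_sigma (c : Ctx p L M A x h) : x ∈ Cfsg.sigmaCore M :=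
  le_sigmaCore c.minimal c.coatomM c.p_sigma c.A_le c.tau.isPGroup c.x_mem

theorem p_ne_two (c : Ctx p L M A x h) : p ≠ 2 := c.tau.ne_two c.minimal

/-- An element of `L` outside `L_σ` fixing a nonidentity element of `L_σ` has its centralizer only in `L`. -/
theorem unique_of_fixed (c : Ctx p L M A x h) {a u : G} (ha : a ∈ L) (ha1 : a ≠ 1)
    (hσ : ∀ t : ℕ, t.Prime → t ∣ orderOf a → t ∉ Cfsg.sigma L) (hu : u ∈ Cfsg.sigmaCore L) (hu1 : u ≠ 1)
    (hc : a * u = u * a) :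
    centralizer ({a} : Set G) ≤ L ∧
      ∀ N : Subgroup G, IsCoatom N → centralizer ({a} : Set G) ≤ N → N = L := by
  obtain ⟨E, hE⟩ := Compl.exists c.minimal c.coatomL
  refine (Cfsg.Agent.S1420.result c.minimal L c.coatomL E hE.compl).2.2.2 a ha ha1 (fun t ht hd => ?_)
    ⟨ha, u, hu, hu1, hc⟩
  rcases Cfsg.Agent.S1432.result c.minimal L c.coatomL u hu hu1 a
    ⟨ha, mem_centralizer_singleton_iff.2 hc⟩ ha1 hσ with ⟨h1, -⟩ | ⟨h1, -⟩
  · exact absurd (c.free ▸ h1 t ht hd) (Set.notMem_empty t)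
  · exact h1 t ht hd

theorem x_unique (c : Ctx p L M A x h) : centralizer ({x} : Set G) ≤ L ∧
    ∀ N : Subgroup G, IsCoatom N → centralizer ({x} : Set G) ≤ N → N = L :=
  c.unique_of_fixed (c.tau.le c.x_mem) c.x_ne (fun t ht hd => by
    rw [orderOf_eq c.x_pow c.x_ne] at hd
    exact (Nat.prime_dvd_prime_iff_eq ht hp.out).1 hd ▸ c.tau.not_sigma) c.h_mem c.h_ne c.h_comm.symm

theorem normalizer_x_le (c : Ctx p L M A x h) : normalizer (zpowers x : Set G) ≤ L := by
  intro g hg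
  have hg' : cj g (zpowers x) = zpowers x := Core.mem_normalizer_iff_map_conj.1 hg
  rw [cj_zpowers] at hg'
  have h1 := unique_centralizer_cj c.x_unique g
  rw [show centralizer ({g * x * g⁻¹} : Set G) = centralizer ({x} : Set G) by
    rw [← CommutatorPLength.centralizer_zpowers, hg', CommutatorPLength.centralizer_zpowers]] at h1
  have h2 : L = cj g L := h1.2 L c.coatomL c.x_unique.1
  have h3 : g ∈ normalizer (L : Set G) := Core.mem_normalizer_iff_map_conj.2 h2.symm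
  rwa [eq_normalizer c.minimal c.coatomL
    (fun e => c.x_ne (mem_bot.1 (e.le (c.tau.le c.x_mem)))) c.coatomL.1 Subgroup.le_normalizer] at h3

theorem cx_not_le (c : Ctx p L M A x h) : ¬ centralizer ({x} : Set G) ≤ M := fun hle => c.h_ne (mem_bot.1
  (c.inter.le ⟨c.h_mem, hle (mem_centralizer_singleton_iff.2 c.h_comm)⟩))

theorem support (c : Ctx p L M A x h) : Support M L x := by
  obtain ⟨N, hN⟩ := exists_support c.minimal c.coatomM c.x_sigma c.x_ne c.cx_not_le
  exact c.x_unique.2 N hN.coatom hN.le ▸ hN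

theorem compl (c : Ctx p L M A x h) : Compl L (M ⊓ L) := c.support.compl

theorem A_le_inter (c : Ctx p L M A x h) : A ≤ M ⊓ L := le_inf c.A_le c.tau.le

theorem inter_normalizer (c : Ctx p L M A x h) : M ⊓ L ≤ normalizer (A : Set G) :=
  (c.tau.compl_structure c.minimal c.compl c.A_le_inter).2

/-- An element of `M` outside `M_σ` moves every nonidentity element of `M_σ`. -/
theorem free_action (c : Ctx p L M A x h) {f v : G} (hf : f ∈ M) (hv : v ∈ Cfsg.sigmaCore M) (hv1 : v ≠ 1)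
    (hc : f * v = v * f) : f ∈ Cfsg.sigmaCore M :=
  c.frob v hv hv1 ⟨hf, mem_centralizer_singleton_iff.2 hc⟩

/-- `M ∩ L ≤ M_σ`. -/
theorem inter_le (c : Ctx p L M A x h) : M ⊓ L ≤ Cfsg.sigmaCore M := by
  have hG := c.minimal
  by_contra hle
  obtain ⟨f₀, hf₀, hf₀σ⟩ := SetLike.not_le_iff_exists.1 hle
  obtain ⟨s, hs, hsd, hsσ⟩ : ∃ s : ℕ, s.Prime ∧ s ∣ orderOf f₀ ∧ s ∉ Cfsg.sigma M := by
    by_contra hno
    push Not at hno
    exact hf₀σ (mem_sigmaCore_of_primes hG c.coatomM hf₀.1 hno)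
  haveI := Fact.mk hs
  set f := f₀ ^ (orderOf f₀ / s)
  have hfo : orderOf f = s := orderOf_pow_orderOf_div (orderOf_pos f₀).ne' hsd
  have hf1 : f ≠ 1 := fun e => hs.ne_one (by rw [← hfo, e, orderOf_one])
  have hfE : f ∈ M ⊓ L := pow_mem hf₀ _
  have hfσ : f ∉ Cfsg.sigmaCore M := fun hm =>
    hsσ (sigmaCore_isPiSub M s hs (hfo.symm.dvd.trans (Subgroup.orderOf_dvd_natCard _ hm)))
  have hAK : A ≤ Cfsg.sigmaCore M := le_sigmaCore hG c.coatomM c.p_sigma c.A_le c.tau.isPGroup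
  set H := Cfsg.sigmaCore L
  have hfix : H ⊓ centralizer ({f} : Set G) ≠ ⊥ := by
    intro e0
    set Z := zpowers f
    have hZE : Z ≤ M ⊓ L := zpowers_le.2 hfE
    have hZn : Z ≤ normalizer (A : Set G) := hZE.trans c.inter_normalizer
    have hfpf : ∀ e ∈ Z, e ≠ 1 → ∀ a ∈ A, e * a = a * e → a = 1 := by
      intro e he he1 a ha hc
      by_contra ha1
      refine hfσ (c.free_action hfE.1 (hAK ha) ha1 ?_)
      have hez : f ∈ zpowers e := by
        rw [zpowers_eq_of_mem (hfo ▸ pow_orderOf_eq_one f) he he1]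
        exact mem_zpowers f
      obtain ⟨i, hi⟩ := mem_zpowers_iff.1 hez
      rw [← hi]
      exact ((show Commute e a from hc).zpow_left i).eq
    have hAZ : A ⊓ Z = ⊥ := by
      refine (eq_bot_iff_forall _).2 fun z hz => by_contra fun hz1 => hz1 ?_
      exact hfpf z hz.2 hz1 z hz.1 rfl
    have hle' : A ⊔ Z ≤ M ⊓ L := sup_le c.A_le_inter hZE
    have hcop : Nat.Coprime (Nat.card H) (Nat.card ↥(A ⊔ Z)) :=
      (c.compl.coprime hG).symm.coprime_dvd_right (card_dvd_of_le hle')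
    have hsol : Group.IsSolvable H := by
      haveI := nilpotent_of_free hG c.coatomL c.free
      infer_instance
    have hHn : ∀ y ∈ A ⊔ Z, ∀ z ∈ H, y * z * y⁻¹ ∈ H := fun y hy z hz =>
      (mem_normalizer_iff.1 (le_normalizer_sigmaCore L ((hle'.trans inf_le_right) hy)) z).1 hz
    have hdis : H ⊓ (A ⊔ Z) = ⊥ :=
      le_bot_iff.1 ((inf_le_inf le_rfl (hle'.trans inf_le_left)).trans c.inter.le)
    have hUn : ∀ e ∈ Z, ∀ a ∈ A, e * a * e⁻¹ ∈ A := fun e he a ha => (mem_normalizer_iff.1 (hZn he) a).1 ha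
    have key := Cfsg.Agent.S1545.result A Z H c.tau.ne_bot (zpowers_ne_bot.2 hf1) hAZ hUn hfpf hHn hdis hsol hcop
    have h1 : H ⊓ centralizer ((A ⊔ Z : Subgroup G) : Set G) = ⊥ :=
      le_bot_iff.1 ((inf_le_inf le_rfl (centralizer_le (SetLike.coe_subset_coe.2 (le_sup_left : A ≤ A ⊔ Z)))).trans (c.tau.fixedfree hG).le)
    have h2 : H ⊓ centralizer (A : Set G) = ⊥ := c.tau.fixedfree hG
    rw [h1, h2, CommutatorPLength.centralizer_zpowers, e0, card_bot, one_pow, one_mul, one_mul] at key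
    exact sigmaCore_ne_bot hG c.coatomL (eq_bot_of_card_eq _ key)
  obtain ⟨u, hu, hu1⟩ := (bot_or_exists_ne_one _).resolve_left hfix
  have hsL : s ∈ Cfsg.tau2 L := by
    rcases Cfsg.Agent.S1432.result hG L c.coatomL u hu.1 hu1 f
      ⟨hfE.2, mem_centralizer_singleton_iff.2 (mem_centralizer_singleton_iff.1 hu.2).symm⟩ hf1
      (fun t ht hd => by
        have := c.compl.not_mem_sigma hG ht
          (hd.trans (Subgroup.orderOf_dvd_natCard _ hfE))
        exact this) with ⟨h1, -⟩ | ⟨h1, -⟩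
    · exact absurd (c.free ▸ h1 s hs hfo.symm.dvd) (Set.notMem_empty s)
    · exact h1 s hs hfo.symm.dvd
  obtain ⟨B, hBE, hB⟩ := c.compl.exists_tau_two hG hsL
  haveI := hB.elem.1
  set K := Cfsg.sigmaCore M
  have hBM : B ≤ M := hBE.trans inf_le_left
  have hcopB : (Nat.card B).Coprime (Nat.card K) := by
    rw [hB.card]
    exact (hs.coprime_iff_not_dvd.2 fun hd => hsσ (sigmaCore_isPiSub M s hs hd)).pow_left 2
  have hgen := Cfsg.Lib.Coprime.le_iSup_centralizer_of_not_isCyclic (not_isCyclic_of_elementary hB.elem hB.card.ge)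
    (hBM.trans (le_normalizer_sigmaCore M)) hcopB
  refine sigmaCore_ne_bot hG c.coatomM (le_bot_iff.1 (hgen.trans (iSup_le ?_)))
  rintro ⟨b, hb, hb1⟩
  intro v hv
  by_contra hv1
  have hbK : b ∈ K := c.free_action (hBM hb) hv.1 (fun e => hv1 (mem_bot.2 e))
    (mem_centralizer_singleton_iff.1 hv.2).symm
  exact hb1 (mem_bot.1 ((Cfsg.Lib.Coprime.disjoint_of_coprime_card hcopB).le_bot ⟨hb, hbK⟩))

/-- `M ∩ L` is abelian. -/
theorem inter_comm (c : Ctx p L M A x h) : IsMulCommutative ↥(M ⊓ L) := by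
  haveI := nilpotent_of_free c.minimal c.coatomM c.freeM
  exact (Cfsg.Agent.S1420.result c.minimal L c.coatomL (M ⊓ L) c.compl.compl).1 _ inf_le_right
    (Group.nilpotent_of_mulEquiv (subgroupOfEquivOfLe c.inter_le))
    fun t ht hd => c.compl.not_mem_sigma c.minimal ht hd

/-- `|M : M_σ|` is odd, at least `3` and at most `(p + 1) / 2`. -/
theorem index_bound (c : Ctx p L M A x h) :
    Odd ((Cfsg.sigmaCore M).relIndex M) ∧ 3 ≤ (Cfsg.sigmaCore M).relIndex M ∧
      2 * (Cfsg.sigmaCore M).relIndex M ≤ p + 1 := by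
  have hG := c.minimal
  have hM := c.coatomM
  set K := Cfsg.sigmaCore M
  set e := K.relIndex M
  have hodd : Odd e := (Uniq.odd_subgroup hG M).of_dvd_nat (relIndex_dvd_card K M)
  have h1 : e ≠ 1 := fun h1 =>
    (derived_lt hG hM).not_ge ((relIndex_eq_one.1 h1).trans (sigmaCore_le_derived hG hM))
  have h3 : 3 ≤ e := by
    obtain ⟨k, hk⟩ := hodd
    omega
  refine ⟨hodd, h3, ?_⟩
  have hp2 : Odd p := hp.out.odd_of_ne_two c.p_ne_two
  obtain ⟨hV1, hVA, hVM, hKV⟩ := zline_facts hG c.tau hM c.p_sigma c.freeM c.A_le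
  set V := zline p M A
  have hVK : V ≤ K := hVA.trans (le_sigmaCore hG hM c.p_sigma c.A_le c.tau.isPGroup)
  have hiff : ∀ {m v : G}, m ∈ M → v ∈ V → v ≠ 1 → (m * v * m⁻¹ = v ↔ m ∈ K) := by
    intro m v hm hv hv1
    rw [mul_inv_eq_iff_eq_mul]
    exact ⟨fun hc => c.free_action hm (hVK hv) hv1 hc,
      fun hk => (mem_centralizer_iff.1 (hKV hk) v hv).symm⟩
  have half : ∀ {n : ℕ}, e ∣ n → Even n → 0 < n → 2 * e ≤ n := fun {n} hd hev hn => by
    obtain ⟨k, rfl⟩ := hd
    rcases k with _ | _ | k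
    · omega
    · rw [zero_add, mul_one] at hev; exact absurd hev (Nat.not_even_iff_odd.2 hodd)
    · nlinarith
  have hzero : ∀ W : Subgroup G, W ≤ V → M ≤ normalizer (W : Set G) → e ∣ Nat.card W - 1 := by
    intro W hWV hWM
    refine dvd_card_sub_one_of_stab W hWM K fun m hm v hv hv1 => hiff hm (hWV hv) hv1
  have hp3 := hp.out.two_le
  have heven : Even (p - 1) := Nat.Odd.sub_odd hp2 odd_one
  obtain ⟨i, hi⟩ := IsPGroup.iff_card.1 (c.tau.isPGroup.to_le hVA)
  obtain rfl | rfl : i = 1 ∨ i = 2 := by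
    have : i ≤ 2 := (Nat.pow_le_pow_iff_right hp.out.one_lt).1 (hi ▸ (card_le_of_le hVA).trans c.tau.card.le)
    have : i ≠ 0 := fun e0 => hV1 (eq_bot_of_card_eq _ (by rw [hi, e0, pow_zero]))
    omega
  · have := hzero V le_rfl hVM
    rw [hi, pow_one] at this
    have := half this heven (by omega)
    omega
  have hVeq : V = A := eq_of_le_of_card_ge hVA (by rw [hi, c.tau.card])
  rw [hVeq] at hKV hzero hiff hVM
  by_cases hline : ∃ z ∈ A, z ≠ 1 ∧ M ≤ normalizer (zpowers z : Set G)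
  · obtain ⟨z, hz, hz1, hzM⟩ := hline
    have := hzero _ (zpowers_le.2 hz) hzM
    rw [card_zpowers_eq (c.tau.elem.2 z hz) hz1] at this
    have := half this heven (by omega)
    omega
  push Not at hline
  have hstab : ∀ m ∈ M, ∀ z ∈ A, z ≠ 1 → m ∈ normalizer (zpowers z : Set G) → m ∈ K := by
    intro m hm z hz hz1 hmz
    by_contra hmK
    obtain ⟨g, hgM, hg⟩ := SetLike.not_le_iff_exists.1 (hline z hz hz1)
    have hcomm : ∀ a ∈ A, g * (m * a * m⁻¹) * g⁻¹ = m * (g * a * g⁻¹) * m⁻¹ := fun a ha =>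
      comm_on_rank_two hG c.tau hVM K hKV (fun {m v} hm hv hv1 hc => (hiff hm hv hv1).1 hc) hgM hm ha
    have hline2 : ∀ a ∈ A, m ∈ normalizer (zpowers a : Set G) →
        m ∈ normalizer (zpowers (g * a * g⁻¹) : Set G) := by
      intro a ha hma
      rw [Core.mem_normalizer_iff_map_conj] at hma ⊢
      change cj m (zpowers a) = zpowers a at hma
      show cj m (zpowers (g * a * g⁻¹)) = zpowers (g * a * g⁻¹)
      rw [cj_zpowers] at hma ⊢
      rw [← hcomm a ha, ← cj_zpowers g (m * a * m⁻¹), hma, cj_zpowers]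
    set w := g * z * g⁻¹
    have hAn : g ∈ normalizer (A : Set G) := hVM hgM
    have hwA : w ∈ A := (mem_normalizer_iff.1 hAn z).1 hz
    have hw1 : w ≠ 1 := fun h0 => hz1 (conj_eq_one_iff.1 h0)
    have hmw := hline2 z hz hmz
    have hwz : w ∉ zpowers z := fun hmem => hg (by
      rw [Core.mem_normalizer_iff_map_conj]
      show cj g (zpowers z) = zpowers z
      rw [cj_zpowers, zpowers_eq_of_mem (c.tau.elem.2 z hz) hmem hw1])
    set t := g * w * g⁻¹
    have htA : t ∈ A := (mem_normalizer_iff.1 hAn w).1 hwA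
    have ht1 : t ≠ 1 := fun h0 => hw1 (conj_eq_one_iff.1 h0)
    have hmt := hline2 w hwA hmw
    have htw : t ∉ zpowers w := fun hmem => hwz (by
      have h1 : g * w * g⁻¹ ∈ cj g (zpowers z) := by rw [cj_zpowers]; exact hmem
      obtain ⟨y, hy, hye⟩ := h1
      have : y = w := (MulAut.conj g).injective hye
      exact this ▸ hy)
    have htz : t ∉ zpowers z := by
      intro hmem
      have h2 : g ^ 2 ∈ normalizer (zpowers z : Set G) := by
        rw [Core.mem_normalizer_iff_map_conj]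
        show cj (g ^ 2) (zpowers z) = zpowers z
        rw [cj_zpowers, show g ^ 2 * z * (g ^ 2)⁻¹ = t by simp [t, w, pow_two, mul_assoc],
          zpowers_eq_of_mem (c.tau.elem.2 z hz) hmem ht1]
      obtain ⟨k, hk⟩ := hG.1.of_dvd_nat (orderOf_dvd_natCard g)
      refine hg ?_
      have : g = (g ^ 2) ^ (k + 1) := by
        rw [← pow_mul, show 2 * (k + 1) = (2 * k + 1) + 1 by ring, pow_succ, ← hk, pow_orderOf_eq_one, one_mul]
      rw [this]
      exact pow_mem h2 _
    haveI := c.tau.elem.1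
    have htop : t ∈ zpowers z ⊔ zpowers w := (sup_lines c.tau.elem c.tau.card hz hz1 hwA hwz).ge htA
    obtain ⟨z', hz', w', hw', ht⟩ := Cfsg.Lib.Coprime.exists_mul_of_mem_sup
      ((centralizer_le_normalizer _).trans' (fun y hy => mem_centralizer_iff.2 fun a ha => congrArg Subtype.val
        (mul_comm' (⟨a, (zpowers_le.2 hz) ha⟩ : A) ⟨y, (zpowers_le.2 hwA) hy⟩) :)) htop
    have hz'1 : z' ≠ 1 := fun h0 => htw (by rw [ht, h0, one_mul]; exact hw')
    have hw'1 : w' ≠ 1 := fun h0 => htz (by rw [ht, h0, mul_one]; exact hz')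
    obtain ⟨k, hk⟩ := scalar_of_three c.tau.elem c.tau.card ((zpowers_le.2 hz) hz') hz'1 ((zpowers_le.2 hwA) hw')
      (u := m) (fun hmem => hwz (by
        rw [zpowers_eq_of_mem (c.tau.elem.2 z hz) hz' hz'1] at hmem
        rw [← zpowers_eq_of_mem (c.tau.elem.2 z hz) hmem hw'1, zpowers_eq_of_mem (c.tau.elem.2 w hwA) hw' hw'1]
        exact mem_zpowers w)) (by rw [zpowers_eq_of_mem (c.tau.elem.2 z hz) hz' hz'1]; exact hmz)
      (by rw [zpowers_eq_of_mem (c.tau.elem.2 w hwA) hw' hw'1]; exact hmw) (by rw [← ht]; exact hmt)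
    exact hmK (c.inter_le ⟨hm, c.normalizer_x_le (mem_normalizer_of_scalar (hk x c.x_mem))⟩)
  have := dvd_succ_of_stab hp.out A c.tau.elem c.tau.card hVM K
    (fun m hm z hz hz1 => ⟨hstab m hm z hz hz1,
      fun hk => mem_normalizer_zpowers_of_commute (mem_centralizer_iff.1 (hKV hk) z hz).symm⟩)
  have := half this (hp2.add_odd odd_one) (by omega)
  omega

end Ctx

/-- The set-up exists if some maximal subgroup with `κ = ∅` is not Frobenius and every supported maximal subgroup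
has `κ = ∅`. -/
theorem exists_ctx (hG : Cfsg.IsMinSimpleOddOrder G)
    (hfree : ∀ N : Subgroup G, IsCoatom N → Cfsg.kappa N = ∅) {M₀ : Subgroup G} (hM₀ : IsCoatom M₀)
    (hn : ¬ IsFrob M₀) :
    ∃ (p : ℕ) (L M A : Subgroup G) (x h : G), p.Prime ∧ Ctx p L M A x h := by
  classical
  have hex : ∃ r : ℕ, r.Prime ∧ ∃ (L : Subgroup G) (c : G), Wit r L c := by
    obtain ⟨r, c, hr, hw⟩ := exists_wit hG hM₀ (hfree _ hM₀) hn
    exact ⟨r, hr, M₀, c, hw⟩
  obtain ⟨hr, L, c₀, hw⟩ := Nat.find_spec hex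
  have hmin : ∀ r < Nat.find hex, ¬ (r.Prime ∧ ∃ (L : Subgroup G) (c : G), Wit r L c) :=
    fun r => Nat.find_min hex
  set p := Nat.find hex
  haveI := Fact.mk hr
  obtain ⟨E, hE⟩ := Compl.exists hG hw.coatom
  obtain ⟨A, hAE, hA⟩ := hE.exists_tau_two hG hw.tau
  haveI := hA.elem.1
  set H := Cfsg.sigmaCore L
  have hgen := Cfsg.Lib.Coprime.le_iSup_centralizer_of_not_isCyclic (not_isCyclic_of_elementary hA.elem hA.card.ge)
    (hA.le.trans (le_normalizer_sigmaCore L)) hA.coprime_sigmaCore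
  obtain ⟨x, hx, hx1, h, hh, hhd⟩ : ∃ x ∈ A, x ≠ 1 ∧ ∃ h ∈ H ⊓ centralizer ({x} : Set G), h ∉ ⁅H, H⁆ := by
    by_contra hno
    push Not at hno
    have hle : H ≤ ⁅H, H⁆ := hgen.trans (iSup_le fun ⟨a, ha, ha1⟩ => hno a ha ha1)
    haveI := nilpotent_of_free hG hw.coatom hw.free
    haveI : Nontrivial H := (nontrivial_iff_ne_bot H).2 (sigmaCore_ne_bot hG hw.coatom)
    have h1 := Group.IsSolvable.commutator_lt_top_of_nontrivial H
    refine h1.ne (map_injective H.subtype_injective ?_)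
    rw [map_subtype_commutator, ← MonoidHom.range_eq_map, range_subtype]
    exact le_antisymm (commutator_le_self _) hle
  obtain ⟨M₁, hM₁, hσ₁⟩ := (Cfsg.Agent.S1378.result hG).1 p hr (hA.dvd_card.trans A.card_subgroup_dvd_card)
  obtain ⟨g, hg⟩ := Cfsg.Agent.S1425.result hG M₁ hM₁ A hA.ne_bot fun t ht hd => by
    rw [hA.card] at hd
    exact (Nat.prime_dvd_prime_iff_eq ht hr).1 (ht.dvd_of_dvd_pow hd) ▸ hσ₁
  set M := cj g⁻¹ M₁
  have hAM : A ≤ M := fun a ha => mem_cj_iff.2 (by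
    rw [inv_inv]; exact sigmaCore_le M₁ (hg (mem_cj ha)))
  have hM : IsCoatom M := isCoatom_map_conj hM₁ g⁻¹
  have hσ : p ∈ Cfsg.sigma M := mem_sigma_of_conj rfl hσ₁ (hA.dvd_card.trans (card_dvd_of_le hAM))
  refine ⟨p, L, M, A, x, h, hr, hG, hw.free, hA, hx, hx1, hh.1, hhd, mem_centralizer_singleton_iff.1 hh.2,
    hM, hσ, hAM, hfree M hM, ?_⟩
  by_contra hnM
  obtain ⟨r, c, hr', hw'⟩ := exists_wit hG hM (hfree M hM) hnM
  exact hmin r (wit_lt hG hA hσ hAM hr' hw') ⟨hr', M, c, hw'⟩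

end Cfsg.Lib.FT12
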