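import Cfsg.Agent.Lib.OddOrder12.Cross
import Cfsg.Agent.Lib.OddOrder12.Cong

/-!
Peterfalvi 12.16: the values of the projection `g` of `τ₁ χ₀` to `L` at `C (x) ∩ L_σ`.
-/

set_option autoImplicit false
set_option linter.style.haveILetI false
set_option linter.unusedSectionVars false

namespace Cfsg.Lib.FT12

open Subgroup Cfsg.Lib Cfsg.Lib.Local Cfsg.Lib.Local.Uniq Cfsg.Lib.Local.Sigma Cfsg.Lib.Char Cfsg.Lib.Char.FT
open Cfsg.Lib.Block (res res_sum res_mul res_natCast resField resField_charP locRing isIntegral_mem_locRing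
  inv_natCast_mem_locRing natCast_mem_locRing)
open scoped commutatorElement ComplexConjugate

universe u

variable {G : Type u} [Group G] [Finite G] {p : ℕ} [hp : Fact p.Prime] {L M A : Subgroup G} {x h : G}

namespace Ctx

theorem projE_surjective (c : Ctx p L M A x h) : Function.Surjective c.projE := fun e =>
  ⟨⟨e, e.2.2⟩, Subtype.ext (c.projE_eq e.2 (one_mem _) (mul_one _).symm)⟩

/-- `φ` is nontrivial on `L_σ`. -/
def NontrivOn (φ : L → ℂ) : Prop := ∃ u : L, (u : G) ∈ Cfsg.sigmaCore L ∧ φ u ≠ φ 1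

variable [Fintype L]

/-- An inflated function is orthogonal to the characters nontrivial on `L_σ`. -/
theorem inflate_orth (c : Ctx p L M A x h) (f : ↥(M ⊓ L) → ℂ) {φ : L → ℂ} (hφ : IsIrrCharacter L φ)
    (hn : NontrivOn φ) : classInner (fun a => f (c.projE a)) φ = 0 := by
  haveI := Fintype.ofFinite ↥(M ⊓ L)
  have hcomm : ∀ a b : ↥(M ⊓ L), a * b = b * a := c.inter_comm.is_comm.comm
  have hf : IsClassFunction ↥(M ⊓ L) f := fun a b => by rw [hcomm b a, mul_inv_cancel_right]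
  have e := eq_sum_classInner hf
  rw [show (fun a => f (c.projE a)) = ∑ η : IrrCharacter ↥(M ⊓ L),
      classInner f (η : ↥(M ⊓ L) → ℂ) • fun a => (η : ↥(M ⊓ L) → ℂ) (c.projE a) from funext fun a => by
        rw [Finset.sum_apply]
        conv_lhs => rw [e]
        rw [Finset.sum_apply]
        rfl, classInner_sum_left]
  refine Finset.sum_eq_zero fun η _ => ?_
  obtain ⟨l, hl⟩ := exists_hom_of_degree_one η.2.isCharacter (degree_eq_one_of_comm hcomm η.2)
  have hirr : IsIrrCharacter L (fun a => (η : ↥(M ⊓ L) → ℂ) (c.projE a)) := by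
    rw [show (fun a => (η : ↥(M ⊓ L) → ℂ) (c.projE a)) = fun a => ((l.comp c.projE) a : ℂ) from
      funext fun a => by rw [hl]; rfl]
    exact isIrrCharacter_linear _
  rw [classInner_smul_left, classInner_irr_ne hirr hφ fun e' => ?_, mul_zero]
  obtain ⟨u, hu, hne⟩ := hn
  refine hne ?_
  rw [← e']
  show (η : ↥(M ⊓ L) → ℂ) (c.projE u) = (η : ↥(M ⊓ L) → ℂ) (c.projE 1)
  rw [(c.projE_eq_one_iff u).2 hu, map_one]

/-- A character nontrivial on `L_σ` vanishes outside `L_σ` and `afSet L`. -/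
theorem vanish_outside (c : Ctx p L M A x h) {φ : L → ℂ} (hφ : IsIrrCharacter L φ) (hn : NontrivOn φ) {a : L}
    (haA : (a : G) ∉ afSet L) (haσ : (a : G) ∉ Cfsg.sigmaCore L) : φ a = 0 := by
  classical
  haveI := Fintype.ofFinite ↥(M ⊓ L)
  haveI := c.inter_comm
  have ha1 : (a : G) ≠ 1 := fun e => haσ (e ▸ one_mem _)
  -- the centralizer of `a` in `L` is no larger than `M ∩ L`
  have hcent : Nat.card (centralizer ({a} : Set L)) ≤ Nat.card ↥(M ⊓ L) := by
    refine Nat.card_le_card_of_injective (fun z => c.projE z.1) fun y z e => ?_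
    have h1 : c.projE ((y : L)⁻¹ * z) = 1 := by rw [map_mul, map_inv, inv_mul_eq_one]; exact e
    by_contra hne
    have hmem := (y⁻¹ * z).2
    rw [mem_centralizer_singleton_iff] at hmem
    refine haA ⟨a.2, ha1, _, (c.projE_eq_one_iff _).1 h1, fun e1 => hne ?_, (congrArg Subtype.val hmem).symm⟩
    exact inv_mul_eq_one.1 (Subtype.ext (Subtype.ext e1) : y⁻¹ * z = 1)
  -- the inflated linear characters
  let ι : (↥(M ⊓ L) →* ℂˣ) → IrrCharacter L := fun l => ⟨_, isIrrCharacter_linear (l.comp c.projE)⟩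
  have hι : Function.Injective ι := fun l l' e => MonoidHom.ext fun y => by
    obtain ⟨b, rfl⟩ := c.projE_surjective y
    exact Units.ext (congrFun (congrArg Subtype.val e) b)
  have hcard : Nat.card (↥(M ⊓ L) →* ℂˣ) = Nat.card ↥(M ⊓ L) := by
    rw [card_linear_eq_index, show commutator ↥(M ⊓ L) = ⊥ from by
      rw [_root_.commutator_def, commutator_eq_bot_iff_le_centralizer]
      exact fun y _ => mem_centralizer_iff.2 fun z _ => mul_comm' z y, index_bot]
  haveI := Fintype.ofFinite (↥(M ⊓ L) →* ℂˣ)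
  set P := Finset.univ.image ι
  have hφP : (⟨φ, hφ⟩ : IrrCharacter L) ∉ P := by
    intro hP
    obtain ⟨l, -, e⟩ := Finset.mem_image.1 hP
    obtain ⟨u, hu, hne⟩ := hn
    refine hne ?_
    rw [show φ = (ι l : L → ℂ) from (congrArg Subtype.val e).symm]
    show ((l.comp c.projE) u : ℂ) = ((l.comp c.projE) 1 : ℂ)
    rw [MonoidHom.comp_apply, (c.projE_eq_one_iff u).2 hu, MonoidHom.map_one]
    simp
  have hcol := column_orthogonality a a
  rw [if_pos (IsConj.refl a)] at hcol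
  simp only [Complex.mul_conj'] at hcol
  have hcolR : ∑ η : IrrCharacter L, ‖(η : L → ℂ) a‖ ^ 2 = (Nat.card (centralizer ({a} : Set L)) : ℝ) := by
    exact_mod_cast hcol
  have hone : ∀ η ∈ P, ‖(η : L → ℂ) a‖ ^ 2 = 1 := by
    intro η hη
    obtain ⟨l, -, rfl⟩ := Finset.mem_image.1 hη
    have hfin : IsOfFinOrder ((l.comp c.projE) a) := (l.comp c.projE).isOfFinOrder (isOfFinOrder_of_finite a)
    obtain ⟨n, hn, hpow⟩ := isOfFinOrder_iff_pow_eq_one.1 hfin
    show ‖((l.comp c.projE) a : ℂ)‖ ^ 2 = 1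
    rw [Complex.norm_eq_one_of_pow_eq_one (by rw [← Units.val_pow_eq_pow_val, hpow, Units.val_one]) hn.ne', one_pow]
  have hsub := Finset.sum_le_sum_of_subset_of_nonneg (Finset.subset_univ (insert (⟨φ, hφ⟩ : IrrCharacter L) P))
    (f := fun η : IrrCharacter L => ‖(η : L → ℂ) a‖ ^ 2) fun η _ _ => by positivity
  rw [hcolR, Finset.sum_insert hφP, Finset.sum_congr rfl hone, Finset.sum_const, Finset.card_image_of_injective _ hι,
    Finset.card_univ, ← Nat.card_eq_fintype_card, hcard, nsmul_eq_mul, mul_one] at hsub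
  have hc' : (Nat.card (centralizer ({a} : Set L)) : ℝ) ≤ Nat.card ↥(M ⊓ L) := by exact_mod_cast hcent
  have h0 : ‖φ a‖ ^ 2 ≤ 0 := by
    have hsub' : ‖φ a‖ ^ 2 + (Nat.card ↥(M ⊓ L) : ℝ) ≤ Nat.card (centralizer ({a} : Set L)) := hsub
    linarith
  exact norm_eq_zero.1 (pow_eq_zero_iff two_ne_zero |>.1 (le_antisymm h0 (by positivity)))

variable [Fintype G] [Fintype M] {τ₁ : (M → ℂ) → (G → ℂ)}

theorem projL_isClassFunction (c : Ctx p L M A x h)
    (hτ : Extends (afSet M) M (Cfsg.supportR M) (kerM M) τ₁) {χ : M → ℂ} (hχ : χ ∈ irrNontrivialOn (kerM M)) :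
    IsClassFunction L (projL τ₁ χ : L → ℂ) :=
  isClassFunction_dadeProj c.dadeL (hτ.gen hχ).isClassFunction

/-- The product with a generalized character supported on `afSet L` is an integer. -/
theorem projL_int (c : Ctx p L M A x h) (hτ : Extends (afSet M) M (Cfsg.supportR M) (kerM M) τ₁)
    {χ : M → ℂ} (hχ : χ ∈ irrNontrivialOn (kerM M)) {β : L → ℂ} (hβ : IsGeneralizedCharacter L β)
    (hβA : ∀ a : L, (a : G) ∉ afSet L → β a = 0) : ∃ z : ℤ, classInner (projL τ₁ χ) β = z := by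
  obtain ⟨z, hz⟩ := (hτ.gen hχ).exists_int_classInner (isGeneralizedCharacter_dadeIsometry c.dadeL hβ hβA)
  exact ⟨z, by rw [← hz, classInner_proj_dade c.dadeL hβ.isClassFunction hβA (hτ.gen hχ).isClassFunction]; rfl⟩

/-- A product with a generalized character of norm at most `2`, orthogonal to the inflations, vanishes. -/
theorem projL_eq_zero_of_norm (c : Ctx p L M A x h) (hτ : Extends (afSet M) M (Cfsg.supportR M) (kerM M) τ₁)
    {χ₀ : M → ℂ} (hχ₀ : χ₀ ∈ irrNontrivialOn (kerM M)) (hd : χ₀ 1 = ((kerM M).index : ℂ))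
    {β : L → ℂ} (hβ : IsGeneralizedCharacter L β) (hβA : ∀ a : L, (a : G) ∉ afSet L → β a = 0)
    (horth : ∀ α ∈ zspanOn (irrNontrivialOn (kerM M)) {1}ᶜ, classInner (c.inflE α) β = 0)
    (hnorm : (classInner β β).re ≤ 2) : classInner (projL τ₁ χ₀) β = 0 := by
  obtain ⟨z, hz⟩ := c.projL_int hτ hχ₀ hβ hβA
  have hb := c.projL_bessel hτ hβ.isClassFunction hβA horth hχ₀ hd
  rw [hz]
  by_contra hne
  have hz1 : (1 : ℝ) ≤ ‖(z : ℂ)‖ ^ 2 := by
    rw [Complex.norm_intCast]
    have : z ≠ 0 := fun e => hne (by rw [e, Int.cast_zero])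
    have h1 : (1 : ℝ) ≤ |(z : ℝ)| := by exact_mod_cast Int.one_le_abs this
    nlinarith
  have hbig : ((kerM M).index : ℝ) * ((kerM M).index + 1) + 1 < Nat.card (kerM M) := by exact_mod_cast c.big
  obtain ⟨-, h3, -⟩ := c.index_bound
  have h3' : (3 : ℝ) ≤ (kerM M).index := by exact_mod_cast h3
  rw [hz] at hb
  nlinarith [mul_le_mul_of_nonneg_left hnorm (by positivity : (0 : ℝ) ≤ (kerM M).index),
    mul_le_mul_of_nonneg_left hz1 (by nlinarith : (0 : ℝ) ≤ (Nat.card (kerM M) : ℝ) - 1),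
    mul_le_mul_of_nonneg_left h3' (by positivity : (0 : ℝ) ≤ (kerM M).index)]

/-- `g (a u) = g (a)` for `a` outside `L_σ` and `u ∈ L_σ`. -/
theorem projL_coset (c : Ctx p L M A x h) (hτ : Extends (afSet M) M (Cfsg.supportR M) (kerM M) τ₁)
    {χ₀ : M → ℂ} (hχ₀ : χ₀ ∈ irrNontrivialOn (kerM M)) (hd : χ₀ 1 = ((kerM M).index : ℂ))
    {a u : L} (ha : (a : G) ∉ Cfsg.sigmaCore L) (hu : (u : G) ∈ Cfsg.sigmaCore L) :
    projL τ₁ χ₀ (a * u) = (projL τ₁ χ₀ a : ℂ) := by
  classical
  set g : L → ℂ := projL τ₁ χ₀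
  have hgc : IsClassFunction L g := c.projL_isClassFunction hτ hχ₀
  set N := Finset.univ.filter fun η : IrrCharacter L => NontrivOn (η : L → ℂ)
  have hexp := fun b : L => congrFun (eq_sum_classInner hgc) b
  have hS : ∀ b : L, (b : G) ∉ Cfsg.sigmaCore L → ∑ η ∈ N, classInner g (η : L → ℂ) * (η : L → ℂ) b = 0 := by
    intro b hb
    haveI := Fintype.ofFinite ↥(M ⊓ L)
    have hcomm : ∀ y z : ↥(M ⊓ L), y * z = z * y := c.inter_comm.is_comm.comm
    have hb1 : c.projE b ≠ 1 := fun e => hb ((c.projE_eq_one_iff b).1 e)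
    obtain ⟨η₀, hη₀⟩ : ∃ η : IrrCharacter ↥(M ⊓ L),
        (η : ↥(M ⊓ L) → ℂ) (c.projE b) ≠ (η : ↥(M ⊓ L) → ℂ) 1 := by
      by_contra hno
      push Not at hno
      obtain ⟨w, hw⟩ := isConj_iff.1 ((isConj_iff_forall_irr (c.projE b) 1).2 hno)
      rw [hcomm w, mul_inv_cancel_right] at hw
      exact hb1 hw
    obtain ⟨l, hl⟩ := exists_hom_of_degree_one η₀.2.isCharacter (degree_eq_one_of_comm hcomm η₀.2)
    set lam := l.comp c.projE
    have hlH : ∀ v : L, (v : G) ∈ Cfsg.sigmaCore L → lam v = 1 := fun v hv => by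
      show l (c.projE v) = 1
      rw [(c.projE_eq_one_iff v).2 hv, map_one]
    have hlb : (lam b : ℂ) ≠ 1 := fun e => hη₀ (by
      rw [hl]; show ((l (c.projE b) : ℂˣ) : ℂ) = ((l 1 : ℂˣ) : ℂ)
      rw [map_one, Units.val_one]; exact e)
    let tw : (L →* ℂˣ) → IrrCharacter L → IrrCharacter L := fun μ η => ⟨_, isIrrCharacter_mul_linear η.2 μ⟩
    have htw : ∀ (μ : L →* ℂˣ) (η : IrrCharacter L) (v : L),
        ((tw μ η) : L → ℂ) v = (η : L → ℂ) v * (μ v : ℂ) := fun _ _ _ => rfl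
    have hnt : ∀ (μ : L →* ℂˣ), (∀ v : L, (v : G) ∈ Cfsg.sigmaCore L → μ v = 1) →
        ∀ η ∈ N, tw μ η ∈ N := by
      intro μ hμ η hη
      obtain ⟨v, hv, hne⟩ := (Finset.mem_filter.1 hη).2
      refine Finset.mem_filter.2 ⟨Finset.mem_univ _, v, hv, ?_⟩
      rw [htw, htw, hμ v hv, map_one, Units.val_one, mul_one, mul_one]
      exact hne
    have hinner : ∀ η ∈ N, classInner g ((tw lam η : IrrCharacter L) : L → ℂ) = classInner g (η : L → ℂ) := by
      intro η hη
      rw [← sub_eq_zero, ← classInner_sub_right]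
      set β : L → ℂ := ((tw lam η : IrrCharacter L) : L → ℂ) - (η : L → ℂ)
      have hnη := (Finset.mem_filter.1 hη).2
      have hnη' := (Finset.mem_filter.1 (hnt lam hlH η hη)).2
      refine c.projL_eq_zero_of_norm hτ hχ₀ hd
        ((tw lam η).2.isCharacter.isGeneralized.sub η.2.isCharacter.isGeneralized) (fun v hv => ?_) (fun α _ => ?_) ?_
      · show ((tw lam η) : L → ℂ) v - (η : L → ℂ) v = 0
        by_cases hvσ : (v : G) ∈ Cfsg.sigmaCore L
        · rw [htw, hlH v hvσ, Units.val_one, mul_one, sub_self]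
        · rw [c.vanish_outside η.2 hnη hv hvσ, c.vanish_outside (tw lam η).2 hnη' hv hvσ, sub_zero]
      · show classInner (fun v => resE α (c.projE v)) β = 0
        rw [classInner_sub_right, c.inflate_orth _ (tw lam η).2 hnη', c.inflate_orth _ η.2 hnη, sub_zero]
      · rw [classInner_sub_left, classInner_sub_right, classInner_sub_right, classInner_irr_self η.2,
          classInner_irr_self (tw lam η).2]
        by_cases he : ((tw lam η : IrrCharacter L) : L → ℂ) = (η : L → ℂ)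
        · rw [he, classInner_irr_self η.2]; norm_num
        · rw [classInner_irr_ne (tw lam η).2 η.2 he, classInner_irr_ne η.2 (tw lam η).2 (Ne.symm he)]; norm_num
    set S := ∑ η ∈ N, classInner g (η : L → ℂ) * (η : L → ℂ) b
    have hSl : S = S * (lam b : ℂ) := by
      rw [Finset.sum_mul]
      refine (Finset.sum_bij' (fun η _ => tw lam η) (fun η _ => tw lam⁻¹ η) (hnt lam hlH)
        (hnt lam⁻¹ fun v hv => by rw [MonoidHom.inv_apply, hlH v hv, inv_one]) (fun η _ => ?_) (fun η _ => ?_)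
        fun η hη => ?_).symm
      · refine Subtype.ext (funext fun v => ?_)
        rw [htw, htw, MonoidHom.inv_apply, mul_assoc, ← Units.val_mul, mul_inv_cancel, Units.val_one, mul_one]
      · refine Subtype.ext (funext fun v => ?_)
        rw [htw, htw, MonoidHom.inv_apply, mul_assoc, ← Units.val_mul, inv_mul_cancel, Units.val_one, mul_one]
      · show classInner g (η : L → ℂ) * (η : L → ℂ) b * (lam b : ℂ) = _
        rw [hinner η hη, htw, mul_assoc]
    have h0 : S * (1 - (lam b : ℂ)) = 0 := by linear_combination hSl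
    exact (mul_eq_zero.1 h0).resolve_right (sub_ne_zero.2 (Ne.symm hlb))
  have hau : ((a * u : L) : G) ∉ Cfsg.sigmaCore L := fun h' => ha (by
    have := mul_mem h' (inv_mem hu)
    simpa using this)
  rw [hexp, hexp, Finset.sum_apply, Finset.sum_apply,
    ← Finset.sum_filter_add_sum_filter_not Finset.univ (fun η : IrrCharacter L => NontrivOn (η : L → ℂ)),
    ← Finset.sum_filter_add_sum_filter_not Finset.univ (fun η : IrrCharacter L => NontrivOn (η : L → ℂ))]
  simp only [Pi.smul_apply, smul_eq_mul]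
  rw [hS _ hau, hS a ha, zero_add, zero_add]
  refine Finset.sum_congr rfl fun η hη => ?_
  have hk : (η : L → ℂ) u = (η : L → ℂ) 1 := by
    by_contra hne
    exact (Finset.mem_filter.1 hη).2 ⟨u, hu, hne⟩
  congr 1
  rw [show a * u = a * u * a⁻¹ * a by group,
    η.2.isCharacter.apply_mul_of_mem_ker ((η.2.isClassFunction u a).trans hk)]

variable {P : Ideal Cfsg.AlgInt} (hP : Cfsg.IsPModular p P)

theorem card_R_prime (c : Ctx p L M A x h) {y : G} (hy : y ∈ afSet L) :
    ¬ p ∣ Nat.card (Cfsg.supportR L y) := by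
  intro hd
  have hxA : x ∈ afSet L := ⟨c.tau.le c.x_mem, c.x_ne, h, c.h_mem, c.h_ne, c.h_comm.symm⟩
  have h1 : p ∣ Nat.card ↥(L ⊓ centralizer ({x} : Set G)) := by
    rw [← orderOf_eq c.x_pow c.x_ne]
    exact Subgroup.orderOf_dvd_natCard _
      (Subgroup.mem_inf.2 ⟨c.tau.le c.x_mem, mem_centralizer_singleton_iff.2 rfl⟩)
  have h2 := Nat.dvd_gcd hd h1
  rw [(c.dadeL.coprime y hy x hxA).gcd_eq_one] at h2
  exact hp.out.not_dvd_one h2

theorem psi_mem_locRing (hτ : Extends (afSet M) M (Cfsg.supportR M) (kerM M) τ₁) {χ : M → ℂ}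
    (hχ : χ ∈ irrNontrivialOn (kerM M)) (g : G) : τ₁ χ g ∈ locRing hP := by
  obtain ⟨u, v, hu, hv, e⟩ := hτ.gen hχ
  rw [e, Pi.sub_apply]
  exact sub_mem (isIntegral_mem_locRing hP (hu.isIntegral g)) (isIntegral_mem_locRing hP (hv.isIntegral g))

theorem projL_mem_locRing (c : Ctx p L M A x h) (hτ : Extends (afSet M) M (Cfsg.supportR M) (kerM M) τ₁)
    {χ : M → ℂ} (hχ : χ ∈ irrNontrivialOn (kerM M)) (y : L) : projL τ₁ χ y ∈ locRing hP := by
  classical
  by_cases hy : (y : G) ∈ afSet L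
  · rw [projL, dadeProj_of_mem _ hy]
    exact mul_mem (inv_natCast_mem_locRing hP (c.card_R_prime hy))
      (sum_mem fun r _ => psi_mem_locRing hP hτ hχ _)
  · rw [projL, dadeProj_of_notMem _ hy]
    exact zero_mem _

/-- `g (u) ≡ |M : M_σ|` for `u ∈ C (x) ∩ L_σ`, `u ≠ 1`. -/
theorem projL_cong (c : Ctx p L M A x h) (hτ : Extends (afSet M) M (Cfsg.supportR M) (kerM M) τ₁)
    {χ₀ : M → ℂ} (hχ₀ : χ₀ ∈ irrNontrivialOn (kerM M)) (hd : χ₀ 1 = ((kerM M).index : ℂ))
    {u : L} (hu : (u : G) ∈ Cfsg.sigmaCore L) (hu1 : (u : G) ≠ 1) (hux : (u : G) * x = x * u) :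
    res hP (projL τ₁ χ₀ u) = ((kerM M).index : resField hP) := by
  classical
  have hG := c.minimal
  haveI : CharP (resField hP) p := resField_charP hP
  set ψ := τ₁ χ₀
  have hψc : IsClassFunction G ψ := (hτ.gen hχ₀).isClassFunction
  set xL : L := ⟨x, c.tau.le c.x_mem⟩
  set xM : M := ⟨x, c.A_le c.x_mem⟩
  have hxσ : (xL : G) ∉ Cfsg.sigmaCore L := fun hm => c.tau.not_sigma (sigmaCore_isPiSub L p hp.out
    ((orderOf_eq c.x_pow c.x_ne).symm.dvd.trans (Subgroup.orderOf_dvd_natCard _ hm)))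
  -- `ψ` is constant on `x C (x)`
  have hconst : ∀ v : G, v ∈ Cfsg.sigmaCore L → v * x = x * v → ψ (x * v) = ψ x := by
    intro v hv hvx
    set vL : L := ⟨v, sigmaCore_le L hv⟩
    have hval : ∀ b : L, (b : G) ∈ afSet L → (b : G) ∉ Cfsg.sigmaCore L → projL τ₁ χ₀ b = ψ b := fun b hb hbσ =>
      dadeProj_of_bot _ hb (supportR_of_le (afSet_outside hG c.coatomL c.free hb hbσ).1)
    have h1 := c.projL_coset hτ hχ₀ hd (a := xL) (u := vL) hxσ hv
    rw [hval xL ⟨c.tau.le c.x_mem, c.x_ne, h, c.h_mem, c.h_ne, c.h_comm.symm⟩ hxσ] at h1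
    have hσ' : ((xL * vL : L) : G) ∉ Cfsg.sigmaCore L := fun h' => hxσ (by
      have := mul_mem h' (inv_mem hv)
      simpa [xL, vL] using this)
    rw [hval _ ?_ hσ'] at h1
    · exact h1
    refine ⟨(xL * vL).2, fun e => hσ' (e ▸ one_mem _), ?_⟩
    by_cases hv1 : v = 1
    · exact ⟨h, c.h_mem, c.h_ne, by simp [xL, vL, hv1, c.h_comm]⟩
    · refine ⟨v, hv, hv1, ?_⟩
      show x * v * v = v * (x * v)
      rw [← mul_assoc v x, hvx]
  -- `ψ x = χ₀ x`
  have hψx : ψ x = χ₀ xM := by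
    have hxA : (xM : G) ∈ afSet M := mem_afSet_of_mem c.x_sigma c.x_ne
    rw [← hτ.proj c.frobData c.big hχ₀ hd hχ₀ hxA, dadeProj_of_mem _ hxA,
      Finset.sum_congr rfl (g := fun _ => ψ x) fun r _ => ?_, Finset.sum_const, Finset.card_univ, nsmul_eq_mul,
      ← Nat.card_eq_fintype_card, inv_mul_cancel_left₀ (Nat.cast_ne_zero.2 Nat.card_pos.ne')]
    rcases supportR_cases hG c.coatomM c.x_sigma c.x_ne with ⟨hle, -⟩ | ⟨N, hN, hR⟩
    · exact absurd hle c.cx_not_le
    · have hr : (r : G) ∈ Cfsg.sigmaCore N ⊓ centralizer ({x} : Set G) := hR ▸ r.2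
      rw [c.x_unique.2 N hN.coatom hN.le] at hr
      exact hconst r hr.1 (mem_centralizer_singleton_iff.1 hr.2)
  have hxM1 : xM ^ p = 1 := Subtype.ext c.x_pow
  have hres_x : res hP (ψ x) = ((kerM M).index : resField hP) := by
    rw [hψx, ← res_natCast hP, ← hd]
    have := res_mul_char hP hχ₀.1.isCharacter hxM1 (Commute.one_right xM)
    rwa [mul_one] at this
  have hres_u : res hP (ψ u) = ((kerM M).index : resField hP) := by
    rw [← res_mul_gen hP (hτ.gen hχ₀) c.x_pow (show Commute x u from hux.symm)]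
    show res hP (ψ (x * u)) = _
    rw [hconst u hu hux, hres_x]
  -- the average over the supporting subgroup
  have huA : (u : G) ∈ afSet L := mem_afSet_of_mem hu hu1
  set R := Cfsg.supportR L (u : G)
  have hxC : x ∈ centralizer ({(u : G)} : Set G) := mem_centralizer_singleton_iff.2 hux.symm
  have hxn : zpowers x ≤ normalizer (R : Set G) := zpowers_le.2 (mem_normalizer_iff.2 fun r =>
    ⟨fun hr => c.dadeL.conj_mem_H _ huA x hxC r hr, fun hr => by
      have := c.dadeL.conj_mem_H _ huA x⁻¹ (inv_mem hxC) _ hr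
      simpa [mul_assoc] using this⟩)
  letI : MulAction (zpowers x) R := MulAction.compHom R ((autOf R).comp (inclusion hxn))
  have hsm : ∀ (q : zpowers x) (r : R), (((q • r : R)) : G) = q * r * (q : G)⁻¹ := fun q r => rfl
  have hQ : IsPGroup p (zpowers x) := IsPGroup.of_card (n := 1) (by rw [card_zpowers_eq c.x_pow c.x_ne, pow_one])
  have hfix : ∀ r : R, r ∈ MulAction.fixedPoints (zpowers x) R ↔ r = 1 := by
    refine fun r => ⟨fun hr => ?_, fun hr => by rw [hr]; exact fun q => Subtype.ext (by rw [hsm]; simp)⟩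
    have h1 := congrArg Subtype.val (hr ⟨x, mem_zpowers x⟩)
    rw [hsm, mul_inv_eq_iff_eq_mul] at h1
    have hrC : (r : G) ∈ centralizer ({x} : Set G) := mem_centralizer_singleton_iff.2 h1.symm
    have hru : (r : G) ∈ centralizer ({(u : G)} : Set G) := c.dadeL.le_centralizer _ huA r.2
    exact Subtype.ext (mem_bot.1 ((c.dadeL.inf_eq_bot _ huA).le ⟨r.2, c.x_unique.1 hrC, hru⟩))
  have hmem : ∀ r : R, ψ ((u : G) * r) ∈ locRing hP := fun r => psi_mem_locRing hP hτ hχ₀ _
  have hsum : res hP (∑ r : R, ψ ((u : G) * r)) = ((kerM M).index : resField hP) := by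
    rw [res_sum hP _ _ fun r _ => hmem r, sum_eq_sum_fixed hQ _ fun q r => ?_,
      Finset.sum_eq_single_of_mem (1 : R) (Finset.mem_filter.2 ⟨Finset.mem_univ _, (hfix 1).2 rfl⟩) fun r hr hne =>
        absurd ((hfix r).1 (Finset.mem_filter.1 hr).2) hne]
    · rw [Subgroup.coe_one, mul_one, hres_u]
    · congr 1
      rw [hsm]
      have hqu : (q : G) * u = u * q := by
        obtain ⟨i, hi⟩ := mem_zpowers_iff.1 q.2
        rw [← hi]
        exact ((show Commute x (u : G) from hux.symm).zpow_left i).eq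
      rw [← hψc ((u : G) * r) (q : G)]
      congr 1
      rw [show (q : G) * (u * r) * (q : G)⁻¹ = ((q : G) * u) * r * (q : G)⁻¹ by group, hqu]
      group
  have hR1 : (Nat.card R : resField hP) = 1 := by
    have hm := hQ.card_modEq_card_fixedPoints R
    have h1 : Nat.card (MulAction.fixedPoints (zpowers x) R) = 1 := by
      refine Nat.card_eq_one_iff_exists.2 ⟨⟨1, (hfix 1).2 rfl⟩, fun r => Subtype.ext ((hfix r.1).1 r.2)⟩
    rw [h1] at hm
    rw [(CharP.natCast_eq_natCast (resField hP) p).2 hm, Nat.cast_one]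
  have hg : projL τ₁ χ₀ u * (Nat.card R : ℂ) = ∑ r : R, ψ ((u : G) * r) := by
    rw [projL, dadeProj_of_mem _ huA, mul_comm, ← mul_assoc,
      mul_inv_cancel₀ (Nat.cast_ne_zero.2 Nat.card_pos.ne'), one_mul]
  have := congrArg (res hP) hg
  rw [hsum, res_mul hP (c.projL_mem_locRing hP hτ hχ₀ u) (natCast_mem_locRing hP _), res_natCast, hR1,
    mul_one] at this
  exact this

end Ctx

end Cfsg.Lib.FT12
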